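import Cfsg.Agent.Lib.PLocal.ThompsonTransfer.MainBound

/-!
The counting argument for the second commutators.
-/

set_option autoImplicit false
set_option linter.unusedSectionVars false
set_option linter.style.haveILetI false

namespace CfsgLib.PLocal.TTransfer

open Cfsg Subgroup CfsgLib.KInf
open scoped commutatorElement

variable {X : Type*} [Group X] [Finite X] {p : ℕ} [Fact p.Prime] {T Q A : Subgroup X}

/-- The representative in `A` of the coset of `a` modulo `H`. -/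
noncomputable def rep (H : Subgroup X) (A : Subgroup X) (a : A) : A :=
  (QuotientGroup.mk (s := H.subgroupOf A) a).out

omit [Finite X] in
theorem rep_spec (H : Subgroup X) {A : Subgroup X} (a : A) :
    ((rep H A a : A) : X)⁻¹ * (a : X) ∈ H := by
  have h := QuotientGroup.eq.1 (QuotientGroup.out_eq' (QuotientGroup.mk (s := H.subgroupOf A) a))
  simpa [rep] using mem_subgroupOf.1 h

omit [Finite X] in
theorem rep_eq_rep {H A : Subgroup X} {a b : A} :
    rep H A a = rep H A b ↔ ((a : A) : X)⁻¹ * (b : X) ∈ H := by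
  refine ⟨fun h => ?_, fun h => congrArg Quotient.out (QuotientGroup.eq.2 (mem_subgroupOf.2 (by simpa using h)))⟩
  have h1 : QuotientGroup.mk (s := H.subgroupOf A) a = QuotientGroup.mk b := by
    rw [← QuotientGroup.out_eq' (QuotientGroup.mk (s := H.subgroupOf A) a),
      ← QuotientGroup.out_eq' (QuotientGroup.mk (s := H.subgroupOf A) b)]
    exact congrArg _ h
  simpa using mem_subgroupOf.1 (QuotientGroup.eq.1 h1)

namespace Setup

variable (S : Setup p T Q A)
include S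

/-- The main bound. -/
theorem main_bound (hp2 : p ≠ 2) {x : X} (hx : x ∈ Q) {N : Subgroup X} [N.Normal] (hN1 : zpc p X ≤ N)
    (hN2 : N ≤ Q ⊓ centralizer (Q : Set X)) (hxN : ∀ r ∈ pc p X, br x r ∈ N)
    (hG : ∀ a ∈ A, ∀ b ∈ A, ∀ c ∈ A, Commute (br x a) (br (br x b) c)) :
    ∀ b ∈ A, ∀ c ∈ A, br (br x b) c ∈ (A ⊓ Q) ⊔ N := by
  classical
  haveI := S.crit.normal
  haveI : (pc p X).Normal := pCore_normal p X
  have hxT := S.QT hx
  have tQ : ∀ a, br x a ∈ Q := br_mem_normal hx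
  have tP : ∀ a, br x a ∈ pc p X := fun a => S.QP (tQ a)
  have uQ : ∀ a b, br (br x a) b ∈ Q := fun a b => br_mem_normal (tQ a) b
  set D := fixA p A with hD
  let φ : X → ZA p X := fun a => ff p x (br x a)
  let h : X → X → ZA p X := fun b a => ff p x (br (br x b) a)
  let F : X → X → ZA p X := fun a b => ff p (br x a) (br x b)
  have hFD : ∀ a ∈ A, ∀ b ∈ A, F a b ∈ D := fun a ha b hb => by
    rw [hD, mem_fixA, S.zv_ff (tQ a) (tQ b)]; exact S.form_mem hx hG ha hb
  have hdl : ∀ a ∈ A, ∀ b ∈ A, dl p a (φ b) = F a b + h b a := by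
    intro a ha b hb
    show dl p a (ff p x (br x b)) = _
    rw [S.dl_ff hx (tQ b), S.ff_of_commute (hG a ha b hb a ha), add_zero]
  have hhD : ∀ a ∈ A, ∀ b ∈ A, h b a ∈ D := by
    intro a ha b hb
    have e : h b a = dl p a (φ b) - F a b := by rw [hdl a ha b hb]; abel
    rw [e]
    exact D.sub_mem (S.dl_mem_fixedZ ha _) (hFD a ha b hb)
  have hsymm : ∀ a ∈ A, ∀ b ∈ A, h b a = h a b := by
    intro a ha b hb
    show ff p x (br (br x b) a) = ff p x (br (br x a) b)
    rw [S.gen_swap hx hG ha hb, S.ff_add_right hx (S.zpc_le (S.br_zpc (tQ b) (tQ a))).1 (uQ a b),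
      S.ff_zc_right hx (S.zpc_le (S.br_zpc (tQ b) (tQ a))), zero_add]
  obtain ⟨hm, hhalf⟩ := S.exists_half hp2
  have hanti : ∀ a b, F b a = -F a b := fun a b => S.ff_swap (tQ a) (tQ b)
  have hF2 : ∀ a ∈ A, ∀ b ∈ A, F a b = dl p b (-(hm • φ a)) - dl p a (-(hm • φ b)) := by
    intro a ha b hb
    rw [map_neg, map_neg, map_nsmul, map_nsmul, hdl b hb a ha, hdl a ha b hb, hsymm a ha b hb, hanti a b,
      neg_sub_neg, ← smul_sub]
    conv_lhs => rw [← hhalf (F a b)]
    congr 1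
    abel
  have hφmul : ∀ a ∈ A, ∀ b ∈ A, φ (a * b) = φ b + φ a + h a b := by
    intro a ha b hb
    show ff p x (br x (a * b)) = _
    rw [br_mul_right, conj_eq_mul_br, S.ff_add_right hx (tQ b) (mul_mem (tQ a) (uQ a b)),
      S.ff_add_right hx (tQ a) (uQ a b), ← add_assoc]
  -- witnesses in `A ∩ O_p`
  let Wit : X → ZA p X → Prop := fun r ζ => r ∈ A ∧ r ∈ pc p X ∧
    ∃ β ∈ A, β ∈ Q ⊓ centralizer (Q : Set X) ∧ br x r = zv ζ * β
  have zP : ∀ ζ : ZA p X, zv ζ ∈ pc p X := fun ζ => (zv_mem ζ).1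
  have hfix : ∀ {ζ : ZA p X} {β r : X}, β ∈ A → r ∈ A → r ∈ pc p X →
      r⁻¹ * (zv ζ * β) * r = zv ζ * β := by
    intro ζ β r hβ hr hrP
    have e : Commute r (zv ζ * β) := (S.zpc_comm (zv_mem ζ) hrP).symm.mul_right (S.Ac r hr β hβ)
    rw [mul_assoc, ← e.eq, inv_mul_cancel_left]
  let Sig : AddSubgroup (ZA p X) :=
    { carrier := {ζ | ∃ r, Wit r ζ}
      zero_mem' := ⟨1, A.one_mem, one_mem _, 1, A.one_mem, one_mem _, by rw [br_one_right, zv_zero, mul_one]⟩
      add_mem' := by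
        rintro ζ η ⟨r, hrA, hrP, β, hβA, hβZ, hr⟩ ⟨s, hsA, hsP, γ, hγA, hγZ, hs⟩
        refine ⟨r * s, A.mul_mem hrA hsA, mul_mem hrP hsP, β * γ, A.mul_mem hβA hγA, mul_mem hβZ hγZ, ?_⟩
        rw [br_mul_right, hr, hfix hβA hsA hsP, hs, zv_add]
        have c1 : Commute (zv η) (zv ζ) := S.zpc_comm (zv_mem η) (zP ζ)
        have c2 : Commute β γ := S.Ac β hβA γ hγA
        have c3 : Commute γ (zv ζ) := (S.zpc_comm (zv_mem ζ) (S.QP hγZ.1)).symm
        calc zv η * γ * (zv ζ * β) = zv η * (γ * zv ζ) * β := by group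
          _ = (zv η * zv ζ) * (γ * β) := by rw [c3.eq]; group
          _ = _ := by rw [c1.eq, c2.eq]
      neg_mem' := by
        rintro ζ ⟨r, hrA, hrP, β, hβA, hβZ, hr⟩
        refine ⟨r⁻¹, A.inv_mem hrA, inv_mem hrP, β⁻¹, A.inv_mem hβA, inv_mem hβZ, ?_⟩
        have h1 := br_mul_right x r r⁻¹
        rw [mul_inv_cancel, br_one_right, hr, hfix hβA (A.inv_mem hrA) (inv_mem hrP)] at h1
        rw [eq_inv_of_mul_eq_one_left h1.symm, mul_inv_rev, zv_neg,
          (S.zpc_comm (inv_mem (zv_mem ζ)) (inv_mem (S.QP hβZ.1))).eq] }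
  have hDSig : D ≤ Sig := by
    intro ζ hζ
    rw [hD, mem_fixA] at hζ
    refine ⟨1, A.one_mem, one_mem _, (zv ζ)⁻¹, A.inv_mem hζ, inv_mem (S.zpc_le (zv_mem ζ)), ?_⟩
    rw [br_one_right, mul_inv_cancel]
  have hφ1 : φ 1 = 0 := by
    show ff p x (br x 1) = 0
    rw [br_one_right, S.ff_of_commute (Commute.one_right x)]
  let A1 : Subgroup X :=
    { carrier := {a | a ∈ A ∧ φ a ∈ Sig}
      one_mem' := ⟨A.one_mem, by rw [hφ1]; exact Sig.zero_mem⟩
      mul_mem' := by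
        rintro a b ⟨ha, ha'⟩ ⟨hb, hb'⟩
        refine ⟨A.mul_mem ha hb, ?_⟩
        rw [hφmul a ha b hb]
        exact Sig.add_mem (Sig.add_mem hb' ha') (hDSig (hhD b hb a ha))
      inv_mem' := by
        rintro a ⟨ha, ha'⟩
        refine ⟨A.inv_mem ha, ?_⟩
        have e := hφmul a ha a⁻¹ (A.inv_mem ha)
        rw [mul_inv_cancel, hφ1] at e
        have e' : φ a⁻¹ = -φ a - h a a⁻¹ := by
          rw [sub_eq_add_neg, ← neg_add, eq_neg_iff_add_eq_zero, ← add_assoc, ← e]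
        rw [e']
        exact Sig.sub_mem (Sig.neg_mem ha') (hDSig (hhD a⁻¹ (A.inv_mem ha) a ha)) }
  let K : Subgroup X :=
    { carrier := {r | r ∈ A ∧ r ∈ pc p X ∧ br x r ∈ A}
      one_mem' := ⟨A.one_mem, one_mem _, by rw [br_one_right]; exact A.one_mem⟩
      mul_mem' := by
        rintro a b ⟨ha, ha', ha''⟩ ⟨hb, hb', hb''⟩
        refine ⟨A.mul_mem ha hb, mul_mem ha' hb', ?_⟩
        rw [br_mul_right]
        exact A.mul_mem hb'' (A.mul_mem (A.mul_mem (A.inv_mem hb) ha'') hb)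
      inv_mem' := by
        rintro a ⟨ha, ha', ha''⟩
        refine ⟨A.inv_mem ha, inv_mem ha', ?_⟩
        have e := br_mul_right x a a⁻¹
        rw [mul_inv_cancel, br_one_right] at e
        rw [eq_inv_of_mul_eq_one_left e.symm]
        exact A.inv_mem (A.mul_mem (A.mul_mem (A.inv_mem (A.inv_mem ha)) ha'') (A.inv_mem ha)) }
  have hKA1 : K ≤ A1 := by
    rintro r ⟨hr, hrP, -⟩
    refine ⟨hr, ?_⟩
    show ff p x (br x r) ∈ Sig
    rw [S.ff_zc_right hx (hN2 (hxN r hrP))]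
    exact Sig.zero_mem
  have hWconj : ∀ {r : X} {ζ : ZA p X}, Wit r ζ → ∀ e ∈ A,
      r⁻¹ * br x e * r = br x e * zv (dl p e ζ) := by
    rintro r ζ ⟨hrA, hrP, β, hβA, hβZ, hr⟩ e he
    have h1 := br_mul_right x e r
    have h2 := br_mul_right x r e
    rw [(S.Ac e he r hrA).eq, h2, hr] at h1
    have h3 : e⁻¹ * (zv ζ * β) * e = zv ζ * zv (dl p e ζ) * β := by
      rw [zv_dl, ← conj_eq_mul_br]
      have hc : Commute β e := S.Ac β hβA e he
      calc e⁻¹ * (zv ζ * β) * e = e⁻¹ * zv ζ * (β * e) := by group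
        _ = e⁻¹ * zv ζ * e * β := by rw [hc.eq]; group
    rw [h3] at h1
    have h4 : br x e * (zv ζ * zv (dl p e ζ) * β) = zv ζ * β * (br x e * zv (dl p e ζ)) := by
      have c1 : Commute (br x e) (zv ζ) := (S.zpc_comm (zv_mem ζ) (tP e)).symm
      have c2 : Commute β (br x e) := S.zc_comm hβZ (tQ e)
      have c3 : Commute (zv (dl p e ζ)) β := S.zpc_comm (zv_mem _) (S.QP hβZ.1)
      calc br x e * (zv ζ * zv (dl p e ζ) * β) = (br x e * zv ζ) * (zv (dl p e ζ) * β) := by group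
        _ = zv ζ * (br x e * β) * zv (dl p e ζ) := by rw [c1.eq, c3.eq]; group
        _ = _ := by rw [← c2.eq]; group
    rw [h4] at h1
    exact (mul_left_cancel h1).symm
  have hWu : ∀ {r : X} {ζ : ZA p X}, Wit r ζ → ∀ b ∈ A, ∀ c ∈ A, Commute r (br (br x b) c) := by
    intro r ζ hW b hb c hc
    have h1 := br_conj r (br x b) c
    rw [hWconj hW b hb, mul_assoc r⁻¹ c, (S.Ac c hc r hW.1).eq, inv_mul_cancel_left,
      br_mul_left, zv_dl, br_eq_one.2 (S.Ac _ (S.zpc_br_mem (zv_mem ζ) hb) c hc), mul_one,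
      mul_assoc _ _ (br (zv ζ) b), ← (S.zpc_comm (br_mem_normal (zv_mem ζ) b : br (zv ζ) b ∈ zpc p X)
        (S.QP (uQ b c))).eq, inv_mul_cancel_left] at h1
    rw [mul_assoc, inv_mul_eq_iff_eq_mul] at h1
    exact h1.symm
  have hKt : ∀ {r : X}, r ∈ K → ∀ e ∈ A, Commute r (br x e) := by
    rintro r ⟨hr, hrP, hrA⟩ e he
    exact S.commute_of_mem hr he hrA (S.zc_comm (hN2 (hxN r hrP)) (tQ e))
  by_contra hcon
  push Not at hcon
  obtain ⟨b₀, hb₀, c₀, hc₀, hwN⟩ := hcon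
  set w := br (br x b₀) c₀ with hwdef
  have hwP : w ∈ pc p X := S.QP (uQ _ _)
  have hwt : ∀ a ∈ A, Commute (br x a) w := fun a ha => hG a ha b₀ hb₀ c₀ hc₀
  have hwK : ∀ k ∈ K, Commute k w := by
    intro k hk
    rw [hwdef, S.gen_eq hx hG hb₀ hc₀]
    exact (((hKt hk c₀ hc₀).mul_right (hKt hk b₀ hb₀)).inv_right).mul_right (hKt hk _ (A.mul_mem hb₀ hc₀))
  set Ss : Set X := {s | ∃ a ∈ A, ∃ r, Wit r (-(hm • φ a)) ∧ s = br x a * r} with hSs
  set H : Subgroup X := closure ((K : Set X) ∪ Ss ∪ (zpc p X : Set X) ∪ {w}) with hHdef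
  have hHT : H ≤ T := by
    refine (closure_le _).2 ?_
    rintro s (((hs | ⟨a, ha, r, hr, rfl⟩) | hs) | rfl)
    · exact S.AT hs.1
    · exact mul_mem (S.QT (tQ a)) (S.AT hr.1)
    · exact S.PT hs.1
    · exact S.PT hwP
  have hcS : ∀ {a : X} {r : X}, a ∈ A → Wit r (-(hm • φ a)) → ∀ k ∈ K, Commute k (br x a * r) :=
    fun ha hr k hk => (hKt hk _ ha).mul_right (S.Ac k hk.1 _ hr.1)
  have hwS : ∀ {a : X} {r : X}, a ∈ A → Wit r (-(hm • φ a)) → Commute (br x a * r) w :=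
    fun ha hr => (hwt _ ha).mul_left (hWu hr b₀ hb₀ c₀ hc₀)
  have hHc : ∀ u ∈ H, ∀ v ∈ H, Commute u v := commute_closure <| by
    rintro u (((hu | ⟨a, ha, r, hr, rfl⟩) | hu) | rfl) v (((hv | ⟨b, hb, s, hs, rfl⟩) | hv) | rfl)
    · exact S.Ac u hu.1 v hv.1
    · exact hcS hb hs u hu
    · exact (S.zpc_comm hv hu.2.1).symm
    · exact hwK u hu
    · exact (hcS ha hr v hv).symm
    · set ζa := -(hm • φ a) with hζa
      set ζb := -(hm • φ b) with hζb
      have e1 : r * br x b = br x b * r * zv (-dl p b ζa) := by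
        have h1 : br x b * r = r * br x b * zv (dl p b ζa) := by
          rw [mul_assoc r, ← hWconj hr b hb]; group
        rw [h1, zv_neg, mul_inv_cancel_right]
      have e2 : s * br x a = br x a * s * zv (-dl p a ζb) := by
        have h1 : br x a * s = s * br x a * zv (dl p a ζb) := by
          rw [mul_assoc s, ← hWconj hs a ha]; group
        rw [h1, zv_neg, mul_inv_cancel_right]
      have hrs : Commute r s := S.Ac r hr.1 s hs.1
      have hcF : Commute (zv (F a b)) (r * s) := S.zpc_comm (zv_mem _) (mul_mem hr.2.1 hs.2.1)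
      have e3 : br x a * br x b = br x b * br x a * zv (F a b) := by
        show _ = _ * zv (ff p (br x a) (br x b))
        rw [S.zv_ff (tQ a) (tQ b)]
        simp only [br]; group
      show br x a * r * (br x b * s) = br x b * s * (br x a * r)
      calc br x a * r * (br x b * s) = br x a * (r * br x b) * s := by group
        _ = br x a * br x b * r * (zv (-dl p b ζa) * s) := by rw [e1]; group
        _ = br x a * br x b * (r * s) * zv (-dl p b ζa) := by
            rw [(S.zpc_comm (zv_mem _) hs.2.1).eq]; group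
        _ = br x b * br x a * (zv (F a b) * (r * s)) * zv (-dl p b ζa) := by rw [e3]; group
        _ = br x b * br x a * (r * s) * zv (F a b + -dl p b ζa) := by rw [hcF.eq, zv_add]; group
        _ = br x b * br x a * (s * r) * zv (-dl p a ζb) := by
            rw [hrs.eq, hF2 a ha b hb, show dl p b ζa - dl p a ζb + -dl p b ζa = -dl p a ζb by abel]
        _ = br x b * br x a * s * (r * zv (-dl p a ζb)) := by group
        _ = br x b * (br x a * s * zv (-dl p a ζb)) * r := by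
            rw [← (S.zpc_comm (zv_mem _) hr.2.1).eq]; group
        _ = br x b * s * (br x a * r) := by rw [← e2]; group
    · exact (S.zpc_comm hv (mul_mem (tP a) hr.2.1)).symm
    · exact hwS ha hr
    · exact S.zpc_comm hu hv.2.1
    · exact S.zpc_comm hu (mul_mem (tP b) hs.2.1)
    · exact S.zpc_comm hu hv.1
    · exact S.zpc_comm hu hwP
    · exact (hwK v hv).symm
    · exact (hwS hb hs).symm
    · exact (S.zpc_comm hv hwP).symm
    · exact Commute.refl _
  -- choices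
  have hchoice : ∀ e : A1, ∃ r, Wit r (-(hm • φ e)) := fun e => Sig.neg_mem (Sig.nsmul_mem e.2.2 hm)
  choose rr hrr using hchoice
  let c : A → A := fun a => rep A1 A a
  let a' : A → A1 := fun a => ⟨((c a : A) : X)⁻¹ * a, rep_spec A1 a⟩
  let aA : A → A := fun a => ⟨(a' a : X), (a' a).2.1⟩
  let e : A → A := fun a => rep K A (aA a)
  have hk : ∀ a, (e a : X)⁻¹ * (a' a : X) ∈ K := fun a => rep_spec K (aA a)
  have he1 : ∀ a, (e a : X) ∈ A1 := fun a => by
    have := A1.mul_mem (a' a).2 (A1.inv_mem (hKA1 (hk a)))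
    simpa using this
  let rv : A → X := fun a => rr ⟨e a, he1 a⟩
  have hrv : ∀ a, Wit (rv a) (-(hm • φ (e a))) := fun a => hrr ⟨e a, he1 a⟩
  let val : A × Fin p → X := fun q =>
    br x (e q.1) * rv q.1 * w ^ (q.2 : ℕ) * zv (φ (c q.1)) * ((e q.1 : X)⁻¹ * (a' q.1 : X))
  have hval : ∀ q, val q ∈ H := fun q => by
    refine mul_mem (mul_mem (mul_mem ?_ (pow_mem ?_ _)) ?_) ?_
    · exact subset_closure (Or.inl (Or.inl (Or.inr ⟨_, (e q.1).2, _, hrv q.1, rfl⟩)))
    · exact subset_closure (Or.inr rfl)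
    · exact subset_closure (Or.inl (Or.inr (zv_mem _)))
    · exact subset_closure (Or.inl (Or.inl (Or.inl (hk q.1))))
  have hinj : Function.Injective fun q => (⟨val q, hval q⟩ : H) := by
    rintro ⟨a, i⟩ ⟨b, j⟩ heq
    have heq' : val (a, i) = val (b, j) := congrArg Subtype.val heq
    simp only [val] at heq'
    set k₁ := (e a : X)⁻¹ * (a' a : X) with hk₁
    set k₂ := (e b : X)⁻¹ * (a' b : X) with hk₂
    set r₁ := rv a with hr₁
    set r₂ := rv b with hr₂
    obtain ⟨hr₁A, hr₁P, -⟩ := hrv a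
    obtain ⟨hr₂A, hr₂P, -⟩ := hrv b
    rw [← hr₁] at hr₁A hr₁P
    rw [← hr₂] at hr₂A hr₂P
    set z₁ := zv (φ (c a)) with hz₁
    set z₂ := zv (φ (c b)) with hz₂
    set β := r₂ * k₂ * (r₁ * k₁)⁻¹ with hβ
    have hβA : β ∈ A := A.mul_mem (A.mul_mem hr₂A (hk b).1) (A.inv_mem (A.mul_mem hr₁A (hk a).1))
    have hβP : β ∈ pc p X := mul_mem (mul_mem hr₂P (hk b).2.1) (inv_mem (mul_mem hr₁P (hk a).2.1))
    have hwr₁ : Commute r₁ w := hWu (hrv a) b₀ hb₀ c₀ hc₀
    have hwr₂ : Commute r₂ w := hWu (hrv b) b₀ hb₀ c₀ hc₀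
    have hwβ : Commute β w := (hwr₂.mul_left (hwK _ (hk b))).mul_left (hwr₁.mul_left (hwK _ (hk a))).inv_left
    have hmove : ∀ {r : X} {z : X} (n : ℕ) (t k : X), r ∈ pc p X → z ∈ zpc p X → Commute r w →
        t * r * w ^ n * z * k = t * w ^ n * z * (r * k) := by
      intro r z n t k hr hz hrw
      calc t * r * w ^ n * z * k = t * (r * w ^ n) * z * k := by group
        _ = t * w ^ n * (r * z) * k := by rw [(hrw.pow_right n).eq]; group
        _ = _ := by rw [← (S.zpc_comm hz hr).eq]; group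
    rw [hmove (i : ℕ) _ k₁ hr₁P (zv_mem _) hwr₁, hmove (j : ℕ) _ k₂ hr₂P (zv_mem _) hwr₂] at heq'
    -- `[x, e a] = [x, e b] * (β * wm * z'')`
    set wm := w ^ (j : ℕ) * (w ^ (i : ℕ))⁻¹ with hwm
    set z'' := zv (φ (c b) - φ (c a)) with hz''
    have hz₁m : z₁ ∈ zpc p X := zv_mem _
    have hz₂m : z₂ ∈ zpc p X := zv_mem _
    have main : br x (e a) = br x (e b) * (β * wm * z'') := by
      have h1 : br x (e a) = br x (e b) * (w ^ (j : ℕ) * z₂ * β * z₁⁻¹ * (w ^ (i : ℕ))⁻¹) := by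
        rw [hβ]
        calc br x (e a) = br x (e a) * w ^ (i : ℕ) * z₁ * (r₁ * k₁) * (r₁ * k₁)⁻¹ * z₁⁻¹ * (w ^ (i : ℕ))⁻¹ := by
              group
          _ = br x (e b) * w ^ (j : ℕ) * z₂ * (r₂ * k₂) * (r₁ * k₁)⁻¹ * z₁⁻¹ * (w ^ (i : ℕ))⁻¹ := by
              rw [heq']
          _ = _ := by group
      rw [h1, hz'', zv_sub, ← hz₁, ← hz₂, hwm]
      congr 1
      have c1 : Commute z₂ β := S.zpc_comm hz₂m hβP
      have c2 : Commute (z₂ * z₁⁻¹) (w ^ (i : ℕ))⁻¹ :=
        S.zpc_comm (mul_mem hz₂m (inv_mem hz₁m)) (inv_mem (pow_mem hwP _))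
      have c3 : Commute β (w ^ (j : ℕ)) := hwβ.pow_right _
      calc w ^ (j : ℕ) * z₂ * β * z₁⁻¹ * (w ^ (i : ℕ))⁻¹ = w ^ (j : ℕ) * (z₂ * β) * z₁⁻¹ * (w ^ (i : ℕ))⁻¹ := by
            group
        _ = (w ^ (j : ℕ) * β) * ((z₂ * z₁⁻¹) * (w ^ (i : ℕ))⁻¹) := by rw [c1.eq]; group
        _ = _ := by rw [← c3.eq, c2.eq]; group
    set d := (e a : X) * (e b : X)⁻¹ with hd
    have hdA : d ∈ A := A.mul_mem (e a).2 (A.inv_mem (e b).2)
    have hbA : (e b : X) ∈ A := (e b).2
    have hwm' : wm ∈ secondComm x A := by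
      rw [hwm]
      exact mul_mem (pow_mem (S.gen_mem hx hG hb₀ hc₀) _) (inv_mem (pow_mem (S.gen_mem hx hG hb₀ hc₀) _))
    set z2 := (e b : X) * z'' * (e b : X)⁻¹ with hz2
    set w2 := (e b : X) * wm * (e b : X)⁻¹ with hw2
    have hz2m : z2 ∈ zpc p X := (zpc_normal p).conj_mem _ (zv_mem _) _
    have hw2m : w2 ∈ secondComm x A := by
      have h1 := mul_mem hwm' (S.br_mem_W hx hG hwm' (A.inv_mem hbA))
      rwa [← conj_eq_mul_br, inv_inv] at h1
    have htd : br x d = β * w2 * z2 := by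
      have h1 := br_mul_right x d (e b)
      rw [hd, inv_mul_cancel_right, ← hd, main] at h1
      have h2 := mul_left_cancel h1
      rw [hw2, hz2]
      have c1 : Commute (e b : X) β := S.Ac _ hbA _ hβA
      calc br x d = (e b : X) * ((e b : X)⁻¹ * br x d * (e b : X)) * (e b : X)⁻¹ := by group
        _ = ((e b : X) * β) * wm * z'' * (e b : X)⁻¹ := by rw [← h2]; group
        _ = _ := by rw [c1.eq]; group
    have hβQ : β ∈ Q := by
      have e1 : β = br x d * z2⁻¹ * w2⁻¹ := by rw [htd]; group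
      rw [e1]
      exact mul_mem (mul_mem (tQ d) (inv_mem (S.zpc_le hz2m).1)) (inv_mem (S.secondComm_le hx hG hw2m))
    by_cases hdP : d ∈ pc p X
    swap
    · refine absurd (mem_sup_left (Subgroup.mem_inf.2 ⟨S.no_outside hx hG hdA hdP hβA hβQ hz2m hw2m ?_ w
        (S.gen_mem hx hG hb₀ hc₀), uQ _ _⟩)) hwN
      rw [htd, mul_assoc β, ← (S.zpc_comm hz2m (S.QP (S.secondComm_le hx hG hw2m))).eq, ← mul_assoc]
    have htdN := hxN d hdP
    have hβM : β ∈ (A ⊓ Q) ⊔ N := mem_sup_left ⟨hβA, hβQ⟩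
    have hw2M : w2 ∈ (A ⊓ Q) ⊔ N := by
      have e1 : w2 = β⁻¹ * br x d * z2⁻¹ := by rw [htd]; group
      rw [e1]
      exact mul_mem (mul_mem (inv_mem hβM) (mem_sup_right htdN)) (mem_sup_right (inv_mem (hN1 hz2m)))
    have hwmM : wm ∈ (A ⊓ Q) ⊔ N := by
      obtain ⟨α, hα, n, hn, hαn⟩ := mem_sup_of_normal_right.1 hw2M
      have e1 : wm = (e b : X)⁻¹ * (α * n) * (e b : X) := by rw [hαn, hw2]; group
      rw [e1, show (e b : X)⁻¹ * (α * n) * (e b : X) = (e b : X)⁻¹ * α * (e b : X) * ((e b : X)⁻¹ * n * (e b : X))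
        by group]
      refine mul_mem (mem_sup_left ⟨A.mul_mem (A.mul_mem (A.inv_mem hbA) hα.1) hbA, ?_⟩) (mem_sup_right (conj_mem' hn _))
      exact conj_mem' hα.2 _
    have hij : i = j := by
      by_contra hne
      obtain ⟨k, hk⟩ := IsPGroup.iff_orderOf.1 S.Tp ⟨w, S.PT hwP⟩
      rw [Subgroup.orderOf_mk] at hk
      have key : ∀ n : ℕ, 0 < n → n < p → w ^ n ∈ (A ⊓ Q) ⊔ N → False := by
        intro n hn0 hnp hmem
        have hcop : Nat.Coprime n (orderOf w) := by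
          rw [hk]
          exact Nat.Coprime.pow_right _ (((Fact.out : p.Prime).coprime_iff_not_dvd.2
            (Nat.not_dvd_of_pos_of_lt hn0 hnp)).symm)
        obtain ⟨m', hm'⟩ := exists_pow_eq_self_of_coprime hcop
        exact hwN (hm' ▸ pow_mem hmem m')
      rcases lt_or_gt_of_ne (fun h => hne (Fin.ext h) : (i : ℕ) ≠ (j : ℕ)) with hlt | hlt
      · refine key ((j : ℕ) - i) (by omega) (by omega) ?_
        rwa [pow_sub _ hlt.le]
      · refine key ((i : ℕ) - j) (by omega) (by omega) ?_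
        rw [pow_sub _ hlt.le]
        simpa [hwm] using inv_mem hwmM
    subst hij
    have hw21 : w2 = 1 := by rw [hw2, hwm, mul_inv_cancel, mul_one, mul_inv_cancel]
    rw [hw21, mul_one] at htd
    have hβZ : β ∈ Q ⊓ centralizer (Q : Set X) := by
      have e1 : β = br x d * z2⁻¹ := by rw [htd]; group
      rw [e1]
      exact mul_mem (hN2 htdN) (inv_mem (S.zpc_le hz2m))
    have hz2S : toZ p z2 ∈ Sig := by
      refine ⟨d, hdA, hdP, β, hβA, hβZ, ?_⟩
      rw [zv_toZ hz2m, htd, (S.zpc_comm hz2m hβP).eq]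
    have hdiff : φ (c b) - φ (c a) ∈ Sig := by
      have e1 : toZ p z2 = (φ (c b) - φ (c a)) + dl p (e b : X)⁻¹ (φ (c b) - φ (c a)) := by
        have := toZ_conj (p := p) (a := ((e b : X))⁻¹) (zv_mem (φ (c b) - φ (c a)))
        rw [inv_inv, toZ_zv] at this
        exact this
      rw [e1] at hz2S
      simpa using Sig.sub_mem hz2S (hDSig (S.dl_mem_fixedZ (A.inv_mem hbA) (φ (c b) - φ (c a))))
    have hcc : c a = c b := by
      have h1 : ((c a : A) : X)⁻¹ * (c b : X) ∈ A1 := by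
        refine ⟨A.mul_mem (A.inv_mem (c a).2) (c b).2, ?_⟩
        have e1 := hφmul _ (c a).2 _ (A.mul_mem (A.inv_mem (c a).2) (c b).2)
        rw [mul_inv_cancel_left] at e1
        have e2 : φ ((c a : X)⁻¹ * (c b : X)) =
            (φ (c b) - φ (c a)) - h (c a : X) ((c a : X)⁻¹ * (c b : X)) := by rw [e1]; abel
        rw [e2]
        exact Sig.sub_mem hdiff (hDSig (hhD _ (A.mul_mem (A.inv_mem (c a).2) (c b).2) _ (c a).2))
      have h2 := rep_spec A1 a
      have h3 := rep_spec A1 b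
      refine rep_eq_rep.2 ?_
      have h4 : (a : X)⁻¹ * (b : X) = (((c a : X))⁻¹ * (a : X))⁻¹ * ((c a : X)⁻¹ * (c b : X)) *
          ((c b : X)⁻¹ * (b : X)) := by group
      rw [h4]
      exact mul_mem (mul_mem (inv_mem h2) h1) h3
    have hz21 : z2 = 1 := by
      rw [hz2, hz'', hcc, sub_self, zv_zero, mul_one, mul_inv_cancel]
    rw [hz21, mul_one] at htd
    have hee : e a = e b := by
      refine rep_eq_rep.2 ?_
      have hdK : d ∈ K := ⟨hdA, hdP, by rw [htd]; exact hβA⟩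
      have h1 : (e a : X)⁻¹ * (e b : X) ∈ K := by
        have : (e a : X)⁻¹ * (e b : X) = d⁻¹ := by
          rw [hd, mul_inv_rev, inv_inv]
          exact (S.Ac _ (A.inv_mem (e a).2) _ hbA).eq
        rw [this]; exact inv_mem hdK
      have h4 : (aA a : X)⁻¹ * (aA b : X) =
          k₁⁻¹ * ((e a : X)⁻¹ * (e b : X)) * k₂ := by
        rw [hk₁, hk₂]; show (a' a : X)⁻¹ * (a' b : X) = _; group
      rw [h4]
      exact mul_mem (mul_mem (inv_mem (hk a)) h1) (hk b)
    have hrveq : rv a = rv b := by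
      show rr ⟨e a, he1 a⟩ = rr ⟨e b, he1 b⟩
      congr 1
      exact Subtype.ext (congrArg (fun u : A => (u : X)) hee)
    have hzeq : z₁ = z₂ := by rw [hz₁, hz₂, hcc]
    rw [hee, ← hz₁, ← hz₂, ← hzeq, hr₁, hrveq, ← hr₂] at heq'
    have hkeq : k₁ = k₂ := mul_left_cancel (mul_left_cancel heq')
    rw [hk₁, hk₂, hee] at hkeq
    have ha' : (a' a : X) = (a' b : X) := mul_left_cancel hkeq
    have hab : (a : X) = (b : X) := by
      have ha'' : ((c a : A) : X)⁻¹ * (a : X) = ((c b : A) : X)⁻¹ * (b : X) := ha'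
      rw [hcc] at ha''
      exact mul_left_cancel ha''
    rw [Subtype.ext hab]
  have h1 := Nat.card_le_card_of_injective _ hinj
  rw [Nat.card_prod, Nat.card_eq_fintype_card (α := Fin p), Fintype.card_fin] at h1
  have h2 := S.maxCard H hHT hHc
  have h3 : 0 < Nat.card A := Nat.card_pos
  have h4 := (Fact.out : p.Prime).two_le
  have h5 : Nat.card A * 2 ≤ Nat.card A * p := Nat.mul_le_mul_left _ h4
  omega

end Setup

end CfsgLib.PLocal.TTransfer
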