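import Cfsg.Agent.Lib.PLocal.ThompsonTransfer.Degree
import Cfsg.Agent.Lib.KInf.Control
import Cfsg.Agent.Lib.Transfer.HallWielandt
import Cfsg.Agent.Lib.Transfer.Fusion

/-!
The normalizer of the abelian Thompson subgroup controls transfer for `p ≥ 7`.
-/

set_option autoImplicit false
set_option linter.unusedSectionVars false
set_option linter.style.haveILetI false

namespace CfsgLib.PLocal.TTransfer

open Cfsg Subgroup CfsgLib.Techniques
open scoped commutatorElement

universe u

theorem commute_of_isMulCommutative {X : Type*} [Group X] {Y : Subgroup X} (h : IsMulCommutative Y) {a b : X}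
    (ha : a ∈ Y) (hb : b ∈ Y) : Commute a b :=
  congrArg Subtype.val (h.is_comm.comm (⟨a, ha⟩ : Y) ⟨b, hb⟩)

theorem isMulCommutative_of_commute {X : Type*} [Group X] {Y : Subgroup X}
    (h : ∀ a ∈ Y, ∀ b ∈ Y, Commute a b) : IsMulCommutative Y :=
  ⟨⟨fun a b => Subtype.ext (h a a.2 b b.2)⟩⟩

theorem exists_maxAbelian (P : Type*) [Group P] [Finite P] : ∃ A : Subgroup P, A ∈ maxAbelianSubgroups P := by
  classical
  obtain ⟨A, hA, hmax⟩ := Set.exists_max_image {A : Subgroup P | IsMulCommutative A} (fun A => Nat.card A)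
    (Set.toFinite _) ⟨⊥, isMulCommutative_of_commute fun a ha b _ => by
      rw [mem_bot.1 ha]; exact Commute.one_left b⟩
  exact ⟨A, hA, hmax⟩

theorem center_le_maxAbelian {P : Type*} [Group P] [Finite P] {A : Subgroup P}
    (hA : A ∈ maxAbelianSubgroups P) : center P ≤ A := by
  intro z hz
  have hc : IsMulCommutative (closure ((A : Set P) ∪ {z}) : Subgroup P) :=
    isMulCommutative_of_commute (commute_closure <| by
      rintro a (ha | rfl) b (hb | rfl)
      exacts [commute_of_isMulCommutative hA.1 ha hb, mem_center_iff.1 hz a,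
        (mem_center_iff.1 hz b).symm, Commute.refl _])
  have hle : A ≤ closure ((A : Set P) ∪ {z}) := fun a ha => subset_closure (Or.inl ha)
  rw [Subgroup.eq_of_le_of_card_ge hle (hA.2 _ hc)]
  exact subset_closure (Or.inr rfl)

theorem map_thompsonSubgroupA_le {Q R : Type*} [Group Q] [Group R] (φ : Q ≃* R) :
    (thompsonSubgroupA Q).map φ.toMonoidHom ≤ thompsonSubgroupA R := by
  rw [map_le_iff_le_comap]
  refine sSup_le fun A hA => map_le_iff_le_comap.1 (le_sSup ⟨?_, fun B hB => ?_⟩)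
  · exact isMulCommutative_of_commute fun a ha b hb => by
      obtain ⟨a, ha', rfl⟩ := ha
      obtain ⟨b, hb', rfl⟩ := hb
      exact (commute_of_isMulCommutative hA.1 ha' hb').map φ.toMonoidHom
  · have h := hA.2 (B.map φ.symm.toMonoidHom) (isMulCommutative_of_commute fun a ha b hb => by
      obtain ⟨a, ha', rfl⟩ := ha
      obtain ⟨b, hb', rfl⟩ := hb
      exact (commute_of_isMulCommutative hB ha' hb').map φ.symm.toMonoidHom)
    rw [card_map_of_injective φ.symm.injective] at h
    rwa [card_map_of_injective φ.injective]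

theorem isCharPFunctor_thompsonSubgroupA (p : ℕ) [Fact p.Prime] :
    IsCharPFunctor.{u} p fun (Q : Type u) [Group Q] => thompsonSubgroupA Q := by
  refine ⟨fun Q _ _ hQ hne h => ?_, fun Q R _ _ _ _ φ => ?_⟩
  · haveI := hne
    haveI := hQ.center_nontrivial
    obtain ⟨A, hA⟩ := exists_maxAbelian Q
    exact (Subgroup.nontrivial_iff_ne_bot _).1 ‹_›
      (le_bot_iff.1 (((center_le_maxAbelian hA).trans (le_sSup hA)).trans h.le))
  · refine le_antisymm (map_thompsonSubgroupA_le φ) fun x hx => ?_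
    exact ⟨φ.symm x, map_thompsonSubgroupA_le φ.symm (mem_map_of_mem _ hx), φ.apply_symm_apply x⟩

variable {G : Type u} [Group G] [Finite G] {p : ℕ} [Fact p.Prime]

/-- If `J(T)` is not normal, some abelian subgroup of `T` of largest order is best placed outside `O_p`. -/
theorem exists_setup {X : Type*} [Group X] [Finite X] (T : Sylow p X) {Q : Subgroup X}
    (hQ : CfsgLib.KInf.Critical p Q) (hAC : pCore p X ⊓ centralizer (Q : Set X) ≤ Q)
    (hT : ¬ (thompsonSubgroupAOf (T : Subgroup X)).Normal) :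
    ∃ A : Subgroup X, Setup p (T : Subgroup X) Q A := by
  classical
  set P := pCore p X with hP
  haveI : P.Normal := pCore_normal p X
  obtain ⟨A₀, hA₀⟩ := exists_maxAbelian (T : Subgroup X)
  set m := Nat.card A₀ with hm
  let Ω : Set (Subgroup X) := {Y | Y ≤ (T : Subgroup X) ∧ (∀ a ∈ Y, ∀ b ∈ Y, Commute a b) ∧
    Nat.card Y = m ∧ ¬ Y ≤ P}
  have hbound : ∀ Y : Subgroup X, Y ≤ (T : Subgroup X) → (∀ a ∈ Y, ∀ b ∈ Y, Commute a b) →
      Nat.card Y ≤ m := by
    intro Y hY hc
    rw [← Nat.card_congr (subgroupOfEquivOfLe hY).toEquiv]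
    exact hA₀.2 _ (isMulCommutative_of_commute fun a ha b hb => Subtype.ext (hc _ ha _ hb))
  have hne : Ω.Nonempty := by
    by_contra hemp
    refine hT ⟨fun y hy x => ?_⟩
    suffices thompsonSubgroupAOf (T : Subgroup X) ≤
        (thompsonSubgroupAOf (T : Subgroup X)).comap (MulAut.conj x).toMonoidHom from this hy
    refine map_le_iff_le_comap.2 (sSup_le fun A hA => map_le_iff_le_comap.1 ?_)
    have hAc : ∀ a ∈ A.map (T : Subgroup X).subtype, ∀ b ∈ A.map (T : Subgroup X).subtype, Commute a b := by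
      rintro _ ⟨a, ha, rfl⟩ _ ⟨b, hb, rfl⟩
      exact (commute_of_isMulCommutative hA.1 ha hb).map (T : Subgroup X).subtype
    have hAm : Nat.card ↥(A.map (T : Subgroup X).subtype) = m := by
      rw [card_map_of_injective (T : Subgroup X).subtype_injective]
      exact le_antisymm (hA₀.2 A hA.1) (hA.2 A₀ hA₀.1)
    have hAP : A.map (T : Subgroup X).subtype ≤ P := by
      by_contra hnot
      exact hemp ⟨_, map_subtype_le _, hAc, hAm, hnot⟩
    set Y := (A.map (T : Subgroup X).subtype).map (MulAut.conj x).toMonoidHom with hY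
    have hYP : Y ≤ P := by
      rintro _ ⟨a, ha, rfl⟩
      exact (inferInstance : P.Normal).conj_mem a (hAP ha) x
    have hYT : Y ≤ (T : Subgroup X) := hYP.trans (CfsgLib.Base.pCore_le_sylow T)
    have hYc : ∀ a ∈ Y, ∀ b ∈ Y, Commute a b := by
      rintro _ ⟨a, ha, rfl⟩ _ ⟨b, hb, rfl⟩
      exact (hAc a ha b hb).map (MulAut.conj x).toMonoidHom
    have hmem : Y.subgroupOf (T : Subgroup X) ∈ maxAbelianSubgroups ↥(T : Subgroup X) := by
      refine ⟨isMulCommutative_of_commute fun a ha b hb => Subtype.ext (hYc _ ha _ hb), fun B hB => ?_⟩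
      rw [Nat.card_congr (subgroupOfEquivOfLe hYT).toEquiv, hY, card_map_of_injective (MulAut.conj x).injective,
        hAm]
      exact hA₀.2 B hB
    intro a ha
    refine (?_ : Y ≤ thompsonSubgroupAOf (T : Subgroup X)) (mem_map_of_mem _ ha)
    rw [← map_subgroupOf_eq_of_le hYT]
    exact map_mono (le_sSup hmem)
  set N := Nat.card X + 1
  obtain ⟨A, ⟨hAT, hAc, hAm, hAP⟩, hmax⟩ := Set.exists_max_image Ω
    (fun Y => Nat.card ↥(Y ⊓ P) * N + Nat.card ↥(Y ⊓ (Q ⊓ centralizer (Q : Set X)))) (Set.toFinite _) hne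
  refine ⟨A, hQ, hAC, T.isPGroup', CfsgLib.Base.pCore_le_sylow T, hAT, hAc, hAP,
    fun Y hY hc => (hbound Y hY hc).trans hAm.ge, fun Y hY hc hcard hYP hge => ?_⟩
  have h := hmax Y ⟨hY, hc, hcard.trans hAm, hYP⟩
  have hb : ∀ H : Subgroup X, Nat.card H < N := fun H => Nat.lt_succ_of_le H.card_le_card_group
  have h1 := hb (A ⊓ (Q ⊓ centralizer (Q : Set X)))
  simp only [← hP] at h ⊢
  change Nat.card ↥(A ⊓ P) ≤ Nat.card ↥(Y ⊓ P) at hge
  have hle : Nat.card ↥(Y ⊓ P) ≤ Nat.card ↥(A ⊓ P) := by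
    by_contra hlt
    have : (Nat.card ↥(A ⊓ P) + 1) * N ≤ Nat.card ↥(Y ⊓ P) * N := Nat.mul_le_mul_right _ (by omega)
    rw [add_one_mul] at this
    omega
  have heq : Nat.card ↥(Y ⊓ P) = Nat.card ↥(A ⊓ P) := le_antisymm hle hge
  rw [heq] at h
  exact ⟨hle, by omega⟩

/-- An element of degree six outside `O_p`. -/
theorem exists_degree_six (hp : 5 ≤ p) (T : Sylow p G) (hT : ¬ (thompsonSubgroupAOf (T : Subgroup G)).Normal) :
    ∃ g : G, g ∈ (T : Subgroup G) ∧ g ∉ pCore p G ∧
      ∀ U V : Subgroup G, IsChiefFactor U V → U ≤ pCore p G → iterCommutator U (zpowers g) 6 ≤ V := by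
  obtain ⟨Q, hQ, hAC⟩ := CfsgLib.KInf.exists_critical_core p G
  obtain ⟨A, S⟩ := exists_setup T hQ hAC hT
  obtain ⟨g, hg, hgP⟩ := SetLike.not_le_iff_exists.1 S.AP
  exact ⟨g, S.AT hg, hgP, S.degree_six hp hg⟩

theorem thompsonA_controlsTransfer (hp : 7 ≤ p) :
    ControlsTransferIn p (inducedFunctor (G := G) fun (Q : Type u) [Group Q] => thompsonSubgroupA Q) ⊤ := by
  have hW := isCharPFunctor_thompsonSubgroupA.{u} p
  refine CfsgLib.KInf.controlsTransfer_of_sections hW
    (Cfsg.Agent.S1972.result _ hW fun K R hR _ T hT => ?_)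
  obtain ⟨g, h1, h2, h3⟩ := exists_degree_six (by omega) T hT
  refine ⟨g, h1, h2, fun U V hUV hU => ?_⟩
  haveI := hUV.2.2.1
  exact iterCommutator_antitone_le (show 6 ≤ p - 1 by omega) (h3 U V hUV hU)

/-- Tate: control of the focal subgroup gives control of the hyperfocal subgroup. -/
theorem inf_pResidual_eq_of_transfer (P : Sylow p G) {H : Subgroup G} (hPH : (P : Subgroup G) ≤ H)
    (h : (P : Subgroup G) ⊓ commutator G = (P : Subgroup G) ⊓ ⁅H, H⁆) :
    (P : Subgroup G) ⊓ pResidual p G = (P : Subgroup G) ⊓ pResidualOf p H := by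
  classical
  haveI := CfsgLib.Transfer.pResidual_normal (G := H) (p := p)
  set R := pResidualOf p H with hR
  have hRG : R ≤ pResidual p G := map_le_iff_le_comap.2 ((closure_le _).2 fun h hh =>
    CfsgLib.Transfer.mem_pResidual_of_coprime (by
      show Nat.Coprime (orderOf (H.subtype h)) p
      rw [orderOf_injective H.subtype H.subtype_injective]; exact hh))
  let π := QuotientGroup.mk' (pResidual p H)
  have hπ : Function.Surjective π := QuotientGroup.mk'_surjective _
  have hbar : IsPGroup p (↥H ⧸ pResidual p H) := CfsgLib.Transfer.isPGroup_quotient_pResidual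
  let PH : Sylow p H := P.subtype hPH
  let f : (P : Subgroup G) →* ↥H ⧸ pResidual p H := π.comp (Subgroup.inclusion hPH)
  have hf : Function.Surjective f := fun y => by
    have htop : (PH.mapSurjective hπ : Subgroup (↥H ⧸ pResidual p H)) = ⊤ :=
      ((PH.mapSurjective hπ).3 (hbar.to_subgroup ⊤) le_top).symm
    obtain ⟨s, hs, e⟩ := (htop.symm ▸ mem_top y : y ∈ (PH.mapSurjective hπ : Subgroup _))
    exact ⟨⟨s, hs⟩, e⟩
  set N := (P : Subgroup G) ⊓ R
  have hNhyp : N ≤ (groupFusionSystem (P : Subgroup G)).hyperfocalSubgroup p := by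
    rw [CfsgLib.Fusion.hyp_group_eq P]
    exact inf_le_inf_left _ hRG
  have hNn : ∀ s ∈ (P : Subgroup G), ∀ z ∈ N, CfsgLib.Fusion.cj s z ∈ N := by
    intro s hs z hz
    refine mem_inf.2 ⟨mul_mem (mul_mem hs (mem_inf.1 hz).1) (inv_mem hs), ?_⟩
    obtain ⟨y, hy, rfl⟩ := (mem_inf.1 hz).2
    exact ⟨⟨s, hPH hs⟩ * y * ⟨s, hPH hs⟩⁻¹,
      (inferInstance : (pResidual p H).Normal).conj_mem y hy _, rfl⟩
  have hcover : (groupFusionSystem (P : Subgroup G)).hyperfocalSubgroup p ≤
      N ⊔ (frattini (P : Subgroup G)).map (P : Subgroup G).subtype := by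
    intro x hx
    rw [CfsgLib.Fusion.hyp_group_eq P] at hx
    have hfoc := CfsgLib.Transfer.inf_pResidual_le_focalSubgroup P hx
    rw [← commutator_inf_eq_focalSubgroup, inf_comm, h] at hfoc
    obtain ⟨hxP, hxH⟩ := mem_inf.1 hfoc
    have hxc : f ⟨x, hxP⟩ ∈ _root_.commutator (↥H ⧸ pResidual p H) := by
      have e : ⁅H, H⁆ = (_root_.commutator H).map H.subtype := by
        rw [_root_.commutator_def, Subgroup.map_commutator, ← MonoidHom.range_eq_map, H.range_subtype]
      rw [e] at hxH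
      obtain ⟨y, hy, hyx⟩ := hxH
      have e2 : f ⟨x, hxP⟩ = π y := congrArg π (Subtype.ext hyx.symm)
      rw [e2, _root_.commutator_def, ← map_top_of_surjective π hπ, ← Subgroup.map_commutator,
        ← _root_.commutator_def]
      exact mem_map_of_mem _ hy
    rw [_root_.commutator_def, ← map_top_of_surjective f hf, ← Subgroup.map_commutator,
      ← _root_.commutator_def] at hxc
    obtain ⟨s, hs, e⟩ := hxc
    have hsΦ : s ∈ frattini (P : Subgroup G) := by
      rw [CfsgLib.PGroups.frattini_eq_derivedPow P.2]; exact mem_sup_left hs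
    have h2 : x * (s : G)⁻¹ ∈ N := by
      refine mem_inf.2 ⟨mul_mem hxP (inv_mem s.2), ⟨⟨x, hPH hxP⟩ * ⟨s, hPH s.2⟩⁻¹, ?_, rfl⟩⟩
      rw [SetLike.mem_coe, ← QuotientGroup.eq_one_iff, ← QuotientGroup.mk'_apply (pResidual p H),
        map_mul, map_inv, mul_inv_eq_one]
      exact e.symm
    rw [← inv_mul_cancel_right x (s : G)]
    exact mul_mem (mem_sup_left h2) (mem_sup_right (mem_map_of_mem _ hsΦ))
  have htate := CfsgLib.Fusion.tate P.2 (CfsgLib.Fusion.groupFusion_isSaturated P) hNhyp hNn hcover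
  rw [CfsgLib.Fusion.hyp_group_eq P] at htate
  exact le_antisymm htate.le (inf_le_inf_left _ hRG)

/-- The `p`-factor groups agree. -/
theorem nonempty_quotient_pResidual_equiv (P : Sylow p G) {H : Subgroup G} (hPH : (P : Subgroup G) ≤ H)
    (h : (P : Subgroup G) ⊓ commutator G = (P : Subgroup G) ⊓ ⁅H, H⁆)
    [(pResidual p G).Normal] [(pResidual p H).Normal] :
    Nonempty (G ⧸ pResidual p G ≃* ↥H ⧸ pResidual p H) := by
  have key := inf_pResidual_eq_of_transfer P hPH h
  let f : (P : Subgroup G) →* G ⧸ pResidual p G :=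
    (QuotientGroup.mk' (pResidual p G)).comp (P : Subgroup G).subtype
  let g : (P : Subgroup G) →* ↥H ⧸ pResidual p H :=
    (QuotientGroup.mk' (pResidual p H)).comp (Subgroup.inclusion hPH)
  have hf : Function.Surjective f := fun y => by
    have hbar : IsPGroup p (G ⧸ pResidual p G) := CfsgLib.Transfer.isPGroup_quotient_pResidual
    have htop : (P.mapSurjective (QuotientGroup.mk'_surjective (pResidual p G)) :
        Subgroup (G ⧸ pResidual p G)) = ⊤ :=
      ((P.mapSurjective (QuotientGroup.mk'_surjective (pResidual p G))).3 (hbar.to_subgroup ⊤) le_top).symm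
    obtain ⟨s, hs, e⟩ := (htop.symm ▸ mem_top y :
      y ∈ (P.mapSurjective (QuotientGroup.mk'_surjective (pResidual p G)) : Subgroup _))
    exact ⟨⟨s, hs⟩, e⟩
  have hg : Function.Surjective g := fun y => by
    have hbar : IsPGroup p (↥H ⧸ pResidual p H) := CfsgLib.Transfer.isPGroup_quotient_pResidual
    have htop : ((P.subtype hPH).mapSurjective (QuotientGroup.mk'_surjective (pResidual p H)) :
        Subgroup (↥H ⧸ pResidual p H)) = ⊤ :=
      (((P.subtype hPH).mapSurjective (QuotientGroup.mk'_surjective (pResidual p H))).3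
        (hbar.to_subgroup ⊤) le_top).symm
    obtain ⟨s, hs, e⟩ := (htop.symm ▸ mem_top y :
      y ∈ ((P.subtype hPH).mapSurjective (QuotientGroup.mk'_surjective (pResidual p H)) : Subgroup _))
    exact ⟨⟨s, hs⟩, e⟩
  have hker : f.ker = g.ker := by
    ext s
    have h1 : f s = 1 ↔ (s : G) ∈ pResidual p G := QuotientGroup.eq_one_iff _
    have h2 : g s = 1 ↔ Subgroup.inclusion hPH s ∈ pResidual p H := QuotientGroup.eq_one_iff _
    rw [MonoidHom.mem_ker, MonoidHom.mem_ker, h1, h2]
    constructor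
    · intro hs
      have h3 : (s : G) ∈ (P : Subgroup G) ⊓ pResidualOf p H := key.le (mem_inf.2 ⟨s.2, hs⟩)
      obtain ⟨y, hy, hys⟩ := h3.2
      exact (Subtype.ext hys : y = Subgroup.inclusion hPH s) ▸ hy
    · intro hs
      exact (key.ge (mem_inf.2 ⟨s.2, ⟨_, hs, rfl⟩⟩)).2
  exact ⟨((QuotientGroup.quotientKerEquivOfSurjective f hf).symm.trans
    (QuotientGroup.quotientMulEquivOfEq hker)).trans (QuotientGroup.quotientKerEquivOfSurjective g hg)⟩

end CfsgLib.PLocal.TTransfer
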