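import Cfsg.Agent.Lib.PLocal.ThompsonTransfer.Bound

/-!
Degree three on the chief factors in the centre of the critical subgroup and degree four on the
critical subgroup.
-/

set_option autoImplicit false
set_option linter.unusedSectionVars false
set_option linter.style.haveILetI false

namespace CfsgLib.PLocal.TTransfer

open Cfsg Subgroup CfsgLib.KInf CfsgLib.Techniques
open scoped commutatorElement

variable {X : Type*} [Group X] [Finite X] {p : ℕ} [Fact p.Prime] {T Q A : Subgroup X}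

theorem comm_eq_br (g w : X) : ⁅g, w⁆ = w * br w g⁻¹ * w⁻¹ := by
  simp only [br, commutatorElement_def]; group

theorem br_swap_of_commute {y a b : X} (hab : Commute a b) :
    br (br y b) a = br (br y b) (br y a) * br (br y a) b := by
  have h : br y b * br y a * br (br y a) b = br y a * br y b * br (br y b) a := by
    have h1 := br_mul_right y a b
    have h2 := br_mul_right y b a
    rw [conj_eq_mul_br] at h1 h2
    rw [mul_assoc, mul_assoc, ← h1, ← h2, hab.eq]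
  generalize br (br y b) a = v at h ⊢
  generalize br (br y a) b = u at h ⊢
  rw [mul_assoc (br y a), ← eq_inv_mul_iff_mul_eq] at h
  rw [br]
  simp only [h, mul_assoc]
  group

theorem br_br_eq (y a b : X) : br (br y a) b = (br y a)⁻¹ * ((br y b)⁻¹ * br y (a * b)) := by
  rw [br_mul_right y a b, inv_mul_cancel_left]; rfl

theorem map_br {Y : Type*} [Group Y] (φ : X →* Y) (x a : X) : φ (br x a) = br (φ x) (φ a) := by
  simp [br]

/-- A criterion for the degree on a chief factor through a minimal normal subgroup. -/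
theorem chief_of_minimal {U V : Subgroup X} (hUV : IsChiefFactor U V) (hUU : ⁅U, U⁆ ≤ V) {g : X} {k : ℕ}
    (H : ∀ U₁ : Subgroup X, U₁.Normal → U₁ ≤ U → ¬ U₁ ≤ V →
      (∀ Y : Subgroup X, Y.Normal → Y ≤ U₁ → Y ≠ U₁ → Y ≤ V) → ∀ x ∈ U₁, (fun w => ⁅g, w⁆)^[k] x ∈ V) :
    iterCommutator U (zpowers g) k ≤ V := by
  haveI := hUV.2.1
  haveI := hUV.2.2.1
  obtain ⟨U₁, ⟨hU₁n, hU₁U, hU₁V⟩, hU₁min⟩ := Set.Finite.exists_minimal
    (s := {Y : Subgroup X | Y.Normal ∧ Y ≤ U ∧ ¬ Y ≤ V}) (Set.toFinite _) ⟨U, hUV.2.1, le_rfl, hUV.1.not_ge⟩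
  haveI := hU₁n
  have hsmall : ∀ Y : Subgroup X, Y.Normal → Y ≤ U₁ → Y ≠ U₁ → Y ≤ V := by
    intro Y hY hle hne
    by_contra hYV
    exact hne (le_antisymm hle (hU₁min ⟨hY, hle.trans hU₁U, hYV⟩ hle))
  refine iterCommutator_le_of_iterate hUU fun x hx => ?_
  have hmain : U₁ ≤ iterKer U V hUU g k := fun y hy => ⟨hU₁U hy, H U₁ hU₁n hU₁U hU₁V hsmall y hy⟩
  have hVk : V ≤ iterKer U V hUU g k := fun v hv => ⟨hUV.1.le hv, by
    clear H hmain
    induction k with
    | zero => exact hv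
    | succ k ih => rw [Function.iterate_succ_apply']; exact comm_mem_of_mem ih⟩
  have hsup : U₁ ⊔ V = U := by
    rcases hUV.2.2.2 (U₁ ⊔ V) inferInstance le_sup_right (sup_le hU₁U hUV.1.le) with h | h
    · exact absurd (h ▸ le_sup_left) hU₁V
    · exact h
  exact ((sup_le hmain hVk) (hsup.ge hx)).2

namespace Setup

variable (S : Setup p T Q A)
include S

theorem zc_normal' : (Q ⊓ centralizer (Q : Set X)).Normal := zc_normal S.crit

/-- The three-fold commutators in a minimal section of the centre. -/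
theorem degree_three (hp2 : p ≠ 2) {g : X} (hg : g ∈ A) {U V : Subgroup X} (hUV : IsChiefFactor U V)
    (hU : U ≤ Q ⊓ centralizer (Q : Set X)) : iterCommutator U (zpowers g) 3 ≤ V := by
  haveI := S.zc_normal'
  haveI : (pc p X).Normal := pCore_normal p X
  haveI := hUV.2.1
  haveI := hUV.2.2.1
  have hUU : ⁅U, U⁆ ≤ V :=
    le_trans (le_of_eq (commutator_eq_bot_iff_le_centralizer.2 fun u hu v hv =>
      (S.zc_comm (hU hu) (hU hv).1).eq.symm)) bot_le
  refine chief_of_minimal hUV hUU fun U₁ hU₁n hU₁U hU₁V hsmall x hx => ?_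
  haveI := hU₁n
  have hU₁Z : U₁ ≤ Q ⊓ centralizer (Q : Set X) := hU₁U.trans hU
  set a := g⁻¹ with ha'
  have ha : a ∈ A := A.inv_mem hg
  have hit : ∀ w ∈ Q ⊓ centralizer (Q : Set X), ⁅g, w⁆ = br w a := fun w hw => by
    rw [comm_eq_br, (S.zc_comm hw (br_mem_normal hw a).1).eq, mul_inv_cancel_right]
  have hxZ := hU₁Z hx
  have hx1 : br x a ∈ U₁ := br_mem_normal hx a
  have hx2 : br (br x a) a ∈ U₁ := br_mem_normal hx1 a
  have hx3 : br (br (br x a) a) a ∈ U₁ := br_mem_normal hx2 a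
  have goal : br (br (br x a) a) a ∈ V := by
    by_cases hZP : U₁ ≤ zpc p X
    · rw [S.zpc_br_br (hZP hx) ha ha, br_one_left]; exact one_mem _
    have hZV : U₁ ⊓ zpc p X ≤ V := hsmall _ inferInstance inf_le_left fun e => hZP (e ▸ inf_le_right)
    have hch : IsChiefFactor U₁ (U₁ ⊓ V) := by
      refine ⟨lt_of_le_of_ne inf_le_left fun e => hU₁V (e ▸ inf_le_right), hU₁n, inferInstance,
        fun N hN hle hNU => ?_⟩
      by_cases hne : N = U₁
      · exact Or.inr hne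
      · exact Or.inl (le_antisymm (le_inf hNU (hsmall N hN hNU hne)) hle)
    have hPU : ⁅U₁, pc p X⁆ ≤ U₁ ⊓ V := by
      rw [Subgroup.commutator_comm]
      exact commutator_le_of_chiefFactor (CfsgLib.Base.isPGroup_pCore p X) hch
        ((hU₁Z.trans inf_le_left).trans S.crit.le)
    have hM := S.main_bound hp2 hxZ.1 (N := (U₁ ⊓ V) ⊔ zpc p X) le_sup_right
      (sup_le (inf_le_left.trans hU₁Z) S.zpc_le) (fun r hr => mem_sup_left (hPU (br_mem hx hr)))
      (fun b _ c _ d _ => S.zc_comm (br_mem_normal hxZ b) (br_mem_normal (br_mem_normal hxZ c) d).1) a ha a ha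
    obtain ⟨β, hβ, m, hm, hβm⟩ := mem_sup_of_normal_right.1 hM
    obtain ⟨n, hn, z, hz, hnz⟩ := mem_sup_of_normal_right.1 hm
    subst hnz
    have hmZ : n * z ∈ Q ⊓ centralizer (Q : Set X) := mul_mem (hU₁Z hn.1) (S.zpc_le hz)
    have hβZ : β ∈ Q ⊓ centralizer (Q : Set X) := by
      have h := mul_mem (hU₁Z hx2) (inv_mem hmZ)
      rwa [← hβm, mul_inv_cancel_right] at h
    have e : br (br (br x a) a) a = br n a * br z a := by
      rw [← hβm, br_mul_left, br_eq_one.2 (S.Ac β hβ.1 a ha), mul_one, inv_mul_cancel, one_mul, br_mul_left,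
        mul_assoc z⁻¹, (S.zc_comm (br_mem_normal (hU₁Z hn.1) a) (S.zpc_le hz).1).eq, inv_mul_cancel_left]
    rw [e]
    refine mul_mem (br_mem_normal hn.2 a) (hZV ⟨?_, br_mem_normal hz a⟩)
    have h := mul_mem (inv_mem (br_mem_normal hn.1 a)) hx3
    rwa [e, inv_mul_cancel_left] at h
  simp only [Function.iterate_succ_apply', Function.iterate_zero_apply]
  rw [hit x hxZ, hit _ (br_mem_normal hxZ a), hit _ (br_mem_normal (br_mem_normal hxZ a) a)]
  exact goal

/-- `[Q, A, …, A]`. -/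
def qser (Q A : Subgroup X) : ℕ → Subgroup X
  | 0 => Q
  | k + 1 => closure {y | ∃ q ∈ qser Q A k, ∃ a ∈ A, br q a = y}

theorem br_mem_qser {k : ℕ} {q a : X} (hq : q ∈ qser Q A k) (ha : a ∈ A) : br q a ∈ qser Q A (k + 1) :=
  subset_closure ⟨q, hq, a, ha, rfl⟩

theorem qser_le (k : ℕ) : qser Q A k ≤ Q := by
  haveI := S.crit.normal
  induction k with
  | zero => exact le_rfl
  | succ k ih =>
    refine (closure_le _).2 ?_
    rintro _ ⟨q, hq, a, -, rfl⟩
    exact br_mem_normal (ih hq) a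

theorem qser_succ_le (k : ℕ) : qser Q A (k + 1) ≤ qser Q A k := by
  induction k with
  | zero => exact S.qser_le 1
  | succ k ih =>
    refine (closure_le _).2 ?_
    rintro _ ⟨q, hq, a, ha, rfl⟩
    exact S.br_mem_qser (ih hq) ha

theorem qser_antitone {i k : ℕ} (h : i ≤ k) : qser Q A k ≤ qser Q A i := by
  induction h with
  | refl => exact le_rfl
  | step _ ih => exact (S.qser_succ_le _).trans ih

theorem exists_qser_eq_bot : ∃ n, qser Q A n = ⊥ := by
  haveI : Group.IsNilpotent T := S.Tp.isNilpotent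
  have hall : ∀ n, qser Q A n ≤ ((⊤ : Subgroup T).lowerCentralSeries n).map T.subtype := by
    intro n
    induction n with
    | zero => exact fun x hx => ⟨⟨x, S.QT hx⟩, by simp, rfl⟩
    | succ n ih =>
      refine (closure_le _).2 ?_
      rintro _ ⟨q, hq, a, ha, rfl⟩
      have := br_mem (ih hq) (S.AT ha)
      rw [SetLike.mem_coe, Subgroup.lowerCentralSeries_succ, Subgroup.map_commutator]
      refine commutator_mono le_rfl ?_ this
      intro x hx
      exact ⟨⟨x, hx⟩, by simp, rfl⟩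
  obtain ⟨n, hn⟩ := Subgroup.nilpotent_iff_lowerCentralSeries.1 (inferInstance : Group.IsNilpotent T)
  refine ⟨n, le_bot_iff.1 ((hall n).trans ?_)⟩
  rw [hn, Subgroup.map_bot]

/-- Additive consequences on a generating set. -/
theorem ff_mem_of_gens (E : AddSubgroup (ZA p X)) {y : X} (hy : y ∈ Q) (k : ℕ)
    (h : ∀ q ∈ qser Q A k, ∀ a ∈ A, ff p (br q a) y ∈ E) : ∀ q ∈ qser Q A (k + 1), ff p q y ∈ E := by
  intro q hq
  change q ∈ Subgroup.closure _ at hq
  induction hq using closure_induction with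
  | mem q hq => obtain ⟨q, hq, a, ha, rfl⟩ := hq; exact h q hq a ha
  | one => rw [S.ff_of_commute (Commute.one_left y)]; exact E.zero_mem
  | mul u v hu hv h1 h2 =>
    rw [S.ff_add_left (S.qser_le (k + 1) hu) (S.qser_le (k + 1) hv) hy]; exact E.add_mem h1 h2
  | inv u hu h1 => rw [S.ff_inv_left (S.qser_le (k + 1) hu) hy]; exact E.neg_mem h1

theorem bB_br {b a : X} (hb : b ∈ (A ⊓ Q) ⊔ (Q ⊓ centralizer (Q : Set X))) (ha : a ∈ A) :
    br b a ∈ Q ⊓ centralizer (Q : Set X) := by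
  haveI := S.zc_normal'
  obtain ⟨β, hβ, z, hz, rfl⟩ := mem_sup_of_normal_right.1 hb
  rw [br_mul_left, br_eq_one.2 (S.Ac β hβ.1 a ha), mul_one, inv_mul_cancel, one_mul]
  exact br_mem_normal hz a

theorem ff_one_B_D {b : X} (hb : b ∈ (A ⊓ Q) ⊔ (Q ⊓ centralizer (Q : Set X))) :
    ∀ q ∈ qser Q A 1, ff p q b ∈ fixA p A := by
  haveI := S.zc_normal'
  haveI := S.crit.normal
  obtain ⟨β, hβ, z, hz, rfl⟩ := mem_sup_of_normal_right.1 hb
  refine S.ff_mem_of_gens _ (mul_mem hβ.2 hz.1) 0 fun q hq a ha => ?_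
  have hq' := br_mem_normal (H := Q) hq a
  rw [S.ff_add_right hq' hβ.2 hz.1, S.ff_zc_right hq' hz, add_zero]
  have h := S.dl_ff hq hβ.2 a
  rw [br_eq_one.2 (S.Ac β hβ.1 a ha), S.ff_of_commute (Commute.one_right q),
    S.ff_of_commute (Commute.one_right (br q a)), add_zero, add_zero] at h
  rw [← h]
  exact S.dl_mem_fixedZ ha _

theorem ff_two_B {b : X} (hb : b ∈ (A ⊓ Q) ⊔ (Q ⊓ centralizer (Q : Set X))) :
    ∀ q ∈ qser Q A 2, ff p q b = 0 := by
  haveI := S.zc_normal'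
  haveI := S.crit.normal
  obtain ⟨β, hβ, z, hz, rfl⟩ := mem_sup_of_normal_right.1 hb
  intro q hq
  refine AddSubgroup.mem_bot.1 (S.ff_mem_of_gens ⊥ (mul_mem hβ.2 hz.1) 1 (fun q hq a ha => ?_) q hq)
  have hqQ := S.qser_le _ hq
  have hq' := br_mem_normal (H := Q) hqQ a
  rw [AddSubgroup.mem_bot, S.ff_add_right hq' hβ.2 hz.1, S.ff_zc_right hq' hz, add_zero]
  have h := S.dl_ff hqQ hβ.2 a
  rw [S.dl_fixedZ ha (S.ff_one_B_D (mem_sup_left hβ) q hq), br_eq_one.2 (S.Ac β hβ.1 a ha),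
    S.ff_of_commute (Commute.one_right q), S.ff_of_commute (Commute.one_right (br q a)), add_zero, add_zero] at h
  exact h.symm

theorem comm_le_zc {x y : X} (hx : x ∈ Q) (hy : y ∈ Q) : br x y ∈ Q ⊓ centralizer (Q : Set X) :=
  S.zpc_le (S.br_zpc hx hy)

theorem br_closure_B {k : ℕ} (h : ∀ q ∈ qser Q A k, ∀ a ∈ A, ∀ c ∈ A,
    br (br q a) c ∈ (A ⊓ Q) ⊔ (Q ⊓ centralizer (Q : Set X))) :
    qser Q A (k + 2) ≤ (A ⊓ Q) ⊔ (Q ⊓ centralizer (Q : Set X)) := by
  haveI := S.crit.normal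
  set B := (A ⊓ Q) ⊔ (Q ⊓ centralizer (Q : Set X)) with hB
  have hBQ : B ≤ Q := sup_le inf_le_right inf_le_left
  have hconj : ∀ y ∈ Q, ∀ b ∈ B, y⁻¹ * b * y ∈ B := fun y hy b hb => by
    rw [conj_eq_mul_br]
    exact mul_mem hb (mem_sup_right (S.comm_le_zc (hBQ hb) hy))
  refine (closure_le _).2 ?_
  rintro _ ⟨q, hq, c, hc, rfl⟩
  change q ∈ Subgroup.closure _ at hq
  suffices br q c ∈ B ∧ q ∈ Q from this.1
  induction hq using closure_induction with
  | mem q hq =>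
    obtain ⟨q, hq, a, ha, rfl⟩ := hq
    exact ⟨h q hq a ha c hc, br_mem_normal (S.qser_le _ hq) a⟩
  | one => exact ⟨by rw [br_one_left]; exact one_mem _, one_mem _⟩
  | mul u v _ _ h1 h2 =>
    exact ⟨by rw [br_mul_left]; exact mul_mem (hconj v h2.2 _ h1.1) h2.1, mul_mem h1.2 h2.2⟩
  | inv u _ h1 =>
    refine ⟨?_, inv_mem h1.2⟩
    have e : br u⁻¹ c = (u⁻¹)⁻¹ * (br u c)⁻¹ * u⁻¹ := by simp only [br]; group
    rw [e]
    exact hconj _ (inv_mem h1.2) _ (inv_mem h1.1)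

theorem ff_mem_swap {E : AddSubgroup (ZA p X)} {x y : X} (hx : x ∈ Q) (hy : y ∈ Q) (h : ff p x y ∈ E) :
    ff p y x ∈ E := by
  rw [S.ff_swap hx hy]; exact E.neg_mem h

theorem descent (hp2 : p ≠ 2) : ∀ k, 2 ≤ k → qser Q A (k + 2) ≤ (A ⊓ Q) ⊔ (Q ⊓ centralizer (Q : Set X)) := by
  haveI := S.zc_normal'
  haveI := S.crit.normal
  obtain ⟨n, hn⟩ := S.exists_qser_eq_bot
  suffices key : ∀ j k, 2 ≤ k → n ≤ k + 2 + j →
      qser Q A (k + 2) ≤ (A ⊓ Q) ⊔ (Q ⊓ centralizer (Q : Set X)) from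
    fun k hk => key n k hk (by omega)
  intro j
  induction j with
  | zero => exact fun k _ hle => ((S.qser_antitone (i := n) (by omega)).trans hn.le).trans bot_le
  | succ j ih =>
    intro k hk hle
    have hB3 := ih (k + 1) (by omega) (by omega)
    obtain ⟨i, rfl⟩ : ∃ i, k = i + 2 := ⟨k - 2, by omega⟩
    have hD : ∀ y ∈ qser Q A (i + 4), ∀ q ∈ qser Q A (i + 2), ff p q y ∈ fixA p A := by
      intro y hy
      refine S.ff_mem_of_gens _ (S.qser_le _ hy) (i + 1) fun q hq c hc => ?_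
      have hyc : br y c ∈ (A ⊓ Q) ⊔ (Q ⊓ centralizer (Q : Set X)) := hB3 (S.br_mem_qser hy hc)
      have h := S.dl_ff (S.qser_le _ hq) (S.qser_le _ hy) c
      rw [S.ff_two_B hyc _ (S.qser_antitone (by omega) (S.br_mem_qser hq hc)), add_zero] at h
      rw [eq_sub_of_add_eq h.symm]
      exact (fixA p A).sub_mem (S.dl_mem_fixedZ hc _)
        (S.ff_one_B_D hyc _ (S.qser_antitone (by omega) hq))
    have h0 : ∀ y ∈ qser Q A (i + 4), ∀ q ∈ qser Q A (i + 3), ff p q y = 0 := by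
      intro y hy q hq
      refine AddSubgroup.mem_bot.1 (S.ff_mem_of_gens ⊥ (S.qser_le _ hy) (i + 2) (fun q hq c hc => ?_) q hq)
      have hyc : br y c ∈ (A ⊓ Q) ⊔ (Q ⊓ centralizer (Q : Set X)) := hB3 (S.br_mem_qser hy hc)
      have h := S.dl_ff (S.qser_le _ hq) (S.qser_le _ hy) c
      rw [S.dl_fixedZ hc (hD y hy q hq), S.ff_two_B hyc _ (S.qser_antitone (by omega) (S.br_mem_qser hq hc)),
        S.ff_two_B hyc _ (S.qser_antitone (by omega) hq), add_zero, add_zero] at h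
      rw [AddSubgroup.mem_bot]
      exact h.symm
    refine S.br_closure_B fun x hx b hb c hc => ?_
    have hxQ := S.qser_le _ hx
    refine S.main_bound hp2 hxQ (N := Q ⊓ centralizer (Q : Set X)) S.zpc_le le_rfl
      (fun r hr => S.br_zc hxQ hr) (fun a ha b hb c hc => br_eq_one.1 ?_) b hb c hc
    have h := h0 _ (S.br_mem_qser (S.br_mem_qser hx hb) hc) _ (S.br_mem_qser hx ha)
    rw [← S.zv_ff (br_mem_normal hxQ a) (br_mem_normal (br_mem_normal hxQ b) c), h, zv_zero]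

theorem ff_two_four (hp2 : p ≠ 2) {q y : X} (hq : q ∈ qser Q A 2) (hy : y ∈ qser Q A 4) : ff p q y = 0 :=
  S.ff_two_B (S.descent hp2 2 le_rfl hy) q hq

theorem ff_one_four (hp2 : p ≠ 2) {q y : X} (hq : q ∈ qser Q A 1) (hy : y ∈ qser Q A 4) :
    ff p q y ∈ fixA p A :=
  S.ff_one_B_D (S.descent hp2 2 le_rfl hy) q hq

theorem ff_two_three (hp2 : p ≠ 2) {q y : X} (hq : q ∈ qser Q A 2) (hy : y ∈ qser Q A 3) :
    ff p q y ∈ fixA p A := by
  haveI := S.crit.normal
  refine S.ff_mem_of_gens _ (S.qser_le _ hy) 1 (fun q hq c hc => ?_) q hq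
  have hyc := S.br_mem_qser hy hc
  have h := S.dl_ff (S.qser_le _ hq) (S.qser_le _ hy) c
  rw [S.ff_two_four hp2 (S.br_mem_qser hq hc) hyc, add_zero] at h
  rw [eq_sub_of_add_eq h.symm]
  exact (fixA p A).sub_mem (S.dl_mem_fixedZ hc _) (S.ff_one_four hp2 hq hyc)

theorem ff_three_three (hp2 : p ≠ 2) {q y : X} (hq : q ∈ qser Q A 3) (hy : y ∈ qser Q A 3) :
    ff p q y = 0 := by
  refine AddSubgroup.mem_bot.1 (S.ff_mem_of_gens ⊥ (S.qser_le _ hy) 2 (fun q hq c hc => ?_) q hq)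
  have hyc := S.br_mem_qser hy hc
  have h := S.dl_ff (S.qser_le _ hq) (S.qser_le _ hy) c
  rw [S.dl_fixedZ hc (S.ff_two_three hp2 hq hy), S.ff_two_four hp2 hq hyc,
    S.ff_two_four hp2 (S.qser_antitone (by omega) (S.br_mem_qser hq hc)) hyc, add_zero, add_zero] at h
  rw [AddSubgroup.mem_bot]
  exact h.symm

theorem eq_zero_of_coprime {n : ℕ} (hn : Nat.Coprime n p) {z : ZA p X} (h : n • z = 0) : z = 0 := by
  have hp' : IsPGroup p ↥(zpc p X) := (CfsgLib.Base.isPGroup_pCore p X).to_le inf_le_left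
  obtain ⟨k, hk⟩ := IsPGroup.iff_card.1 hp'
  have h1 : addOrderOf z ∣ n := addOrderOf_dvd_of_nsmul_eq_zero h
  have h2 : addOrderOf z ∣ p ^ k := by
    refine addOrderOf_dvd_of_nsmul_eq_zero ?_
    have h3 : (Additive.toMul z) ^ p ^ k = 1 := by rw [← hk]; exact pow_card_eq_one'
    exact h3
  have h4 := Nat.eq_one_of_dvd_coprimes (Nat.Coprime.pow_right k hn) h1 h2
  exact AddMonoid.addOrderOf_eq_one_iff.1 h4

/-- (★) -/
theorem ff_star (hp2 : p ≠ 2) {u : X} (hu : u ∈ Q) {e₁ e₂ e₃ e₄ : X} (h₁ : e₁ ∈ A) (h₂ : e₂ ∈ A)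
    (h₃ : e₃ ∈ A) (h₄ : e₄ ∈ A) : ff p u (br (br (br (br u e₁) e₂) e₃) e₄) ∈ fixA p A := by
  haveI := S.crit.normal
  haveI := S.zc_normal'
  have m1 : ∀ {e}, e ∈ A → br u e ∈ qser Q A 1 := fun he => S.br_mem_qser (k := 0) hu he
  have m2 : ∀ {e f}, e ∈ A → f ∈ A → br (br u e) f ∈ qser Q A 2 := fun he hf => S.br_mem_qser (m1 he) hf
  have m3 : ∀ {e f g}, e ∈ A → f ∈ A → g ∈ A → br (br (br u e) f) g ∈ qser Q A 3 :=
    fun he hf hg => S.br_mem_qser (m2 he hf) hg
  have m4 : ∀ {e f g k}, e ∈ A → f ∈ A → g ∈ A → k ∈ A → br (br (br (br u e) f) g) k ∈ qser Q A 4 :=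
    fun he hf hg hk => S.br_mem_qser (m3 he hf hg) hk
  set D := fixA p A with hD
  -- one shift
  have shift : ∀ {q y e : X}, q ∈ Q → y ∈ Q → e ∈ A → ff p (br q e) (br y e) ∈ D →
      ff p q (br y e) + ff p (br q e) y ∈ D := by
    intro q y e hq hy he h
    have h1 := S.dl_ff hq hy e
    have h2 : ff p q (br y e) + ff p (br q e) y = dl p e (ff p q y) - ff p (br q e) (br y e) := by
      rw [h1]; abel
    rw [h2]
    exact D.sub_mem (S.dl_mem_fixedZ he _) h
  have q1 := S.qser_le 1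
  have q2 := S.qser_le 2
  have q3 := S.qser_le 3
  have q4 := S.qser_le 4
  have s1 := shift hu (q3 (m3 h₁ h₂ h₃)) h₄ (S.ff_one_four hp2 (m1 h₄) (m4 h₁ h₂ h₃ h₄))
  have s2 := shift (q1 (m1 h₄)) (q2 (m2 h₁ h₂)) h₃ (S.ff_two_three hp2 (m2 h₄ h₃) (m3 h₁ h₂ h₃))
  have s3 := shift (q2 (m2 h₄ h₃)) (q1 (m1 h₁)) h₂
    (S.ff_mem_swap (q2 (m2 h₁ h₂)) (q3 (m3 h₄ h₃ h₂)) (S.ff_two_three hp2 (m2 h₁ h₂) (m3 h₄ h₃ h₂)))
  have s4 := shift (q3 (m3 h₄ h₃ h₂)) hu h₁
    (S.ff_mem_swap (q1 (m1 h₁)) (q4 (m4 h₄ h₃ h₂ h₁)) (S.ff_one_four hp2 (m1 h₁) (m4 h₄ h₃ h₂ h₁)))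
  set θ := br (br (br (br u e₁) e₂) e₃) e₄ with hθ
  set θ' := br (br (br (br u e₄) e₃) e₂) e₁ with hθ'
  have hθθ : θ⁻¹ * θ' ∈ Q ⊓ centralizer (Q : Set X) := by
    refine QuotientGroup.eq.1 ?_
    show QuotientGroup.mk' (Q ⊓ centralizer (Q : Set X)) θ = QuotientGroup.mk' (Q ⊓ centralizer (Q : Set X)) θ'
    rw [hθ, hθ']
    simp only [map_br]
    set π := QuotientGroup.mk' (Q ⊓ centralizer (Q : Set X)) with hπ
    have hcm : ∀ {a b : X}, a ∈ Q → b ∈ Q → Commute (π a) (π b) := by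
      intro a b ha hb
      refine br_eq_one.1 ?_
      rw [← map_br, hπ, QuotientGroup.mk'_apply, QuotientGroup.eq_one_iff]
      exact S.comm_le_zc ha hb
    have sw : ∀ {q a b : X}, q ∈ Q → a ∈ A → b ∈ A →
        br (br (π q) (π a)) (π b) = br (br (π q) (π b)) (π a) := by
      intro q a b hq ha hb
      rw [br_br_eq, br_br_eq (π q) (π b) (π a), ← map_mul, ← map_mul, (S.Ac b hb a ha).eq, ← map_br, ← map_br,
        ← mul_assoc, ← mul_assoc, ((hcm (br_mem_normal hq a) (br_mem_normal hq b)).inv_inv).eq]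
    calc br (br (br (br (π u) (π e₁)) (π e₂)) (π e₃)) (π e₄)
        = br (br (br (br (π u) (π e₂)) (π e₁)) (π e₃)) (π e₄) := by rw [sw hu h₁ h₂]
      _ = br (br (br (br (π u) (π e₂)) (π e₃)) (π e₁)) (π e₄) := by
          rw [← map_br, sw (br_mem_normal hu e₂) h₁ h₃, map_br]
      _ = br (br (br (br (π u) (π e₂)) (π e₃)) (π e₄)) (π e₁) := by
          rw [← map_br, ← map_br, sw (br_mem_normal (br_mem_normal hu e₂) e₃) h₁ h₄, map_br, map_br]
      _ = br (br (br (br (π u) (π e₃)) (π e₂)) (π e₄)) (π e₁) := by rw [sw hu h₂ h₃]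
      _ = br (br (br (br (π u) (π e₃)) (π e₄)) (π e₂)) (π e₁) := by
          rw [← map_br, sw (br_mem_normal hu e₃) h₂ h₄, map_br]
      _ = br (br (br (br (π u) (π e₄)) (π e₃)) (π e₂)) (π e₁) := by rw [sw hu h₃ h₄]
  have hθQ : θ ∈ Q := q4 (m4 h₁ h₂ h₃ h₄)
  have hθ'Q : θ' ∈ Q := q4 (m4 h₄ h₃ h₂ h₁)
  have e0 : ff p u θ' = ff p u θ := by
    rw [show θ' = θ * (θ⁻¹ * θ') by group, S.ff_add_right hu hθQ hθθ.1, S.ff_zc_right hu hθθ, add_zero]
  have e1 : ff p θ' u = -ff p u θ := by rw [S.ff_swap hu hθ'Q, e0]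
  have htwo : ff p u θ + ff p u θ ∈ D := by
    have h := D.sub_mem (D.add_mem (D.sub_mem s1 s2) s3) s4
    rw [e1] at h
    refine (show _ = ff p u θ + ff p u θ from ?_) ▸ h
    abel
  obtain ⟨m, hm⟩ := S.exists_half hp2
  rw [← hm (ff p u θ)]
  exact D.nsmul_mem htwo m

/-- Degree four on the critical subgroup. -/
theorem degree_four (hp : 5 ≤ p) {u g : X} (hu : u ∈ Q) (hg : g ∈ A) :
    br (br (br (br u g) g) g) g ∈ Q ⊓ centralizer (Q : Set X) := by
  haveI := S.crit.normal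
  have hp2 : p ≠ 2 := by omega
  set x := br u g with hxdef
  have hx : x ∈ qser Q A 1 := S.br_mem_qser (k := 0) hu hg
  have hxQ : x ∈ Q := S.qser_le _ hx
  have tm : ∀ {a}, a ∈ A → br x a ∈ qser Q A 2 := fun ha => S.br_mem_qser hx ha
  have tQ : ∀ a, br x a ∈ Q := br_mem_normal hxQ
  have um : ∀ {a b}, a ∈ A → b ∈ A → br (br x a) b ∈ qser Q A 3 := fun ha hb => S.br_mem_qser (tm ha) hb
  have uQ : ∀ a b, br (br x a) b ∈ Q := fun a b => br_mem_normal (tQ a) b
  let F : X → X → ZA p X := fun a b => ff p (br x a) (br x b)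
  let hh : X → X → ZA p X := fun b a => ff p x (br (br x b) a)
  let G : X → X → X → ZA p X := fun a b c => ff p (br x a) (br (br x b) c)
  have huswap : ∀ {y}, y ∈ Q → ∀ {a b}, a ∈ A → b ∈ A →
      ff p y (br (br x b) a) = ff p y (br (br x a) b) := by
    intro y hy a b ha hb
    rw [br_swap_of_commute (S.Ac a ha b hb), S.ff_add_right hy (S.comm_le_zc (tQ b) (tQ a)).1 (uQ a b),
      S.ff_zc_right hy (S.comm_le_zc (tQ b) (tQ a)), zero_add]
  have hFh : ∀ {a b}, a ∈ A → b ∈ A → F a b + hh b a ∈ fixA p A := by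
    intro a b ha hb
    have h := S.dl_ff hxQ (tQ b) a
    have e : F a b + hh b a = dl p a (ff p x (br x b)) - G a b a := by
      rw [h]; show _ = _ - ff p (br x a) (br (br x b) a); abel
    rw [e]
    exact (fixA p A).sub_mem (S.dl_mem_fixedZ ha _) (S.ff_two_three hp2 (tm ha) (um hb ha))
  obtain ⟨m, hm⟩ := S.exists_half hp2
  have hFD : ∀ {a b}, a ∈ A → b ∈ A → F a b ∈ fixA p A := by
    intro a b ha hb
    rw [← hm (F a b)]
    refine (fixA p A).nsmul_mem ?_ m
    have h1 := hFh ha hb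
    have h2 := hFh hb ha
    rw [show hh a b = hh b a from huswap hxQ hb ha, show F b a = -F a b from S.ff_swap (tQ a) (tQ b)] at h2
    have := (fixA p A).sub_mem h1 h2
    convert this using 1
    abel
  have hbc : ∀ {a b c}, a ∈ A → b ∈ A → c ∈ A → G a b c = G a c b := fun ha hb hc =>
    huswap (tQ _) hc hb
  have hab : ∀ {a b c}, a ∈ A → b ∈ A → c ∈ A → G a b c = G b a c := by
    intro a b c ha hb hc
    have h := S.dl_ff (tQ a) (tQ b) c
    rw [S.dl_fixedZ hc (hFD ha hb), S.ff_three_three hp2 (um ha hc) (um hb hc), add_zero,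
      S.ff_swap (tQ b) (uQ a c), eq_comm, neg_add_eq_zero] at h
    exact h.symm
  have hadd : ∀ {a a' b c}, a ∈ A → a' ∈ A → b ∈ A → c ∈ A → G (a * a') b c = G a b c + G a' b c := by
    intro a a' b c ha ha' hb hc
    show ff p (br x (a * a')) _ = _
    rw [br_mul_right, conj_eq_mul_br, S.ff_add_left (tQ a') (mul_mem (tQ a) (uQ a a')) (uQ b c),
      S.ff_add_left (tQ a) (uQ a a') (uQ b c), S.ff_three_three hp2 (um ha ha') (um hb hc), add_zero]
    exact add_comm _ _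
  have hadd2 : ∀ {a b b' c}, a ∈ A → b ∈ A → b' ∈ A → c ∈ A → G a (b * b') c = G a b c + G a b' c := by
    intro a b b' c ha hb hb' hc
    rw [hab ha (A.mul_mem hb hb') hc, hadd hb hb' ha hc, hab hb ha hc, hab hb' ha hc]
  have hadd3 : ∀ {a b c c'}, a ∈ A → b ∈ A → c ∈ A → c' ∈ A → G a b (c * c') = G a b c + G a b c' := by
    intro a b c c' ha hb hc hc'
    rw [hbc ha hb (A.mul_mem hc hc'), hadd2 ha hc hc' hb, hbc ha hc hb, hbc ha hc' hb]
  have hdiag : ∀ {a}, a ∈ A → G a a a = 0 := by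
    intro a ha
    show ff p (br x a) (br (br x a) a) = 0
    set v := br (br x a) a with hv
    have hv3 : v ∈ qser Q A 3 := um ha ha
    have hvQ := S.qser_le _ hv3
    set u' := br u a with hu'
    have hu'1 : u' ∈ qser Q A 1 := S.br_mem_qser (k := 0) hu ha
    have hu'Q := S.qser_le _ hu'1
    have e : ff p (br x a) v = ff p (br u' g) v := by
      rw [hxdef, hu', br_br_eq, br_br_eq u a g, (S.Ac a ha g hg).eq]
      have hga := br_mem_normal (H := Q) hu (g * a)
      have hg1 := br_mem_normal (H := Q) hu g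
      have ha1 := br_mem_normal (H := Q) hu a
      rw [S.ff_add_left (inv_mem hg1) (mul_mem (inv_mem ha1) hga) hvQ, S.ff_add_left (inv_mem ha1) hga hvQ,
        S.ff_add_left (inv_mem ha1) (mul_mem (inv_mem hg1) hga) hvQ, S.ff_add_left (inv_mem hg1) hga hvQ]
      abel
    rw [e]
    have hva := S.br_mem_qser hv3 ha
    have hvg := S.br_mem_qser hv3 hg
    have hD1 : ff p u' v ∈ fixA p A := by
      have h := S.dl_ff hu hvQ a
      have e1 : ff p u' v = dl p a (ff p u v) - ff p u (br v a) - ff p u' (br v a) := by rw [h]; abel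
      rw [e1]
      refine (fixA p A).sub_mem ((fixA p A).sub_mem (S.dl_mem_fixedZ ha _) ?_) (S.ff_one_four hp2 hu'1 hva)
      exact S.ff_star hp2 hu hg ha ha ha
    have h0 : ff p u' (br v g) = 0 := by
      have hb : ff p u (br v g) ∈ fixA p A := S.ff_star hp2 hu hg ha ha hg
      have hz5 : br (br v g) a ∈ Q ⊓ centralizer (Q : Set X) := S.bB_br (S.descent hp2 2 le_rfl hvg) ha
      have h := S.dl_ff hu (S.qser_le _ hvg) a
      rw [S.dl_fixedZ ha hb, S.ff_zc_right hu hz5, S.ff_zc_right (br_mem_normal hu a) hz5, add_zero,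
        add_zero] at h
      exact h.symm
    have h := S.dl_ff hu'Q hvQ g
    rw [S.dl_fixedZ hg hD1, h0, S.ff_two_four hp2 (S.br_mem_qser hu'1 hg) hvg, add_zero, add_zero] at h
    exact h.symm
  have hpP : p.Prime := Fact.out
  have h6 : Nat.Coprime 6 p := by
    refine (Nat.coprime_comm.1 (hpP.coprime_iff_not_dvd.2 fun hdvd => ?_))
    have h := Nat.le_of_dvd (by norm_num) hdvd
    interval_cases p
    · omega
    · exact absurd hpP (by norm_num)
  have hdouble : ∀ {a b}, a ∈ A → b ∈ A → G a b b = 0 := by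
    intro a b ha hb
    have hb' := A.inv_mem hb
    have ninv : ∀ {c d}, c ∈ A → d ∈ A → G b⁻¹ c d = -G b c d := by
      intro c d hc hd
      refine eq_neg_of_add_eq_zero_left ?_
      rw [← hadd hb' hb hc hd, inv_mul_cancel]
      show ff p (br x 1) _ = 0
      rw [br_one_right, S.ff_of_commute (Commute.one_left _)]
    have ex : ∀ {b}, b ∈ A → G (a * b) (a * b) (a * b) =
        (G a a a + G b b b) + (G b a a + G b a a + G b a a) + (G a b b + G a b b + G a b b) := by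
      intro b hb
      rw [hadd ha hb (A.mul_mem ha hb) (A.mul_mem ha hb), hadd2 ha ha hb (A.mul_mem ha hb),
        hadd2 hb ha hb (A.mul_mem ha hb), hadd3 ha ha ha hb, hadd3 ha hb ha hb, hadd3 hb ha ha hb,
        hadd3 hb hb ha hb]
      rw [hab ha ha hb |>.symm, hbc ha ha hb, hab ha hb ha, hab hb ha hb, hbc hb hb ha, hab hb ha hb]
      abel
    have h1 := ex hb
    have h2 := ex hb'
    rw [hdiag (A.mul_mem ha hb), hdiag ha, hdiag hb, zero_add, zero_add] at h1
    have hbb : G a b⁻¹ b⁻¹ = G a b b := by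
      rw [hab ha hb' hb', ninv ha hb', hbc hb ha hb', hab hb hb' ha, ninv hb ha, neg_neg, hbc hb hb ha,
        hab hb ha hb]
    rw [hdiag (A.mul_mem ha hb'), hdiag ha, hdiag hb', zero_add, zero_add, ninv ha ha, hbb] at h2
    refine S.eq_zero_of_coprime h6 ?_
    calc 6 • G a b b = ((G b a a + G b a a + G b a a) + (G a b b + G a b b + G a b b))
          + ((-G b a a + -G b a a + -G b a a) + (G a b b + G a b b + G a b b)) := by abel
      _ = 0 := by rw [← h1, ← h2, add_zero]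
  have hG0 : ∀ {a b c}, a ∈ A → b ∈ A → c ∈ A → G a b c = 0 := by
    intro a b c ha hb hc
    have h := hdouble ha (A.mul_mem hb hc)
    rw [hadd2 ha hb hc (A.mul_mem hb hc), hadd3 ha hb hb hc, hadd3 ha hc hb hc, hdouble ha hb,
      hdouble ha hc, hbc ha hc hb] at h
    refine S.eq_zero_of_coprime (n := 2) (Nat.Coprime.coprime_dvd_left ⟨3, rfl⟩ h6) ?_
    rw [← h]; abel
  haveI := S.zc_normal'
  have hM := S.main_bound hp2 hxQ (N := Q ⊓ centralizer (Q : Set X)) S.zpc_le le_rfl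
    (fun r hr => S.br_zc hxQ hr) (fun a ha b hb c hc => br_eq_one.1 ?_) g hg g hg
  · exact S.bB_br hM hg
  · rw [← S.zv_ff (tQ a) (uQ b c), show ff p (br x a) (br (br x b) c) = 0 from hG0 ha hb hc, zv_zero]

/-- Iterating `⁅g, ·⁆` agrees with iterating `br · g⁻¹` modulo the centre. -/
theorem iterate_congr (g : X) {x : X} (hx : x ∈ Q) : ∀ k,
    (fun w => br w g⁻¹)^[k] x ∈ Q ∧ ∃ z ∈ Q ⊓ centralizer (Q : Set X),
      (fun w => ⁅g, w⁆)^[k] x = (fun w => br w g⁻¹)^[k] x * z := by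
  haveI := S.crit.normal
  haveI := S.zc_normal'
  intro k
  induction k with
  | zero => exact ⟨hx, 1, one_mem _, (mul_one _).symm⟩
  | succ k ih =>
    obtain ⟨hQ, z, hz, he⟩ := ih
    simp only [Function.iterate_succ_apply']
    set y := (fun w => br w g⁻¹)^[k] x with hy
    rw [he]
    have hy' : br y g⁻¹ ∈ Q := br_mem_normal hQ _
    refine ⟨hy', br z g⁻¹ * br (br y g⁻¹ * br z g⁻¹) (y * z)⁻¹, mul_mem (br_mem_normal hz _)
      (S.comm_le_zc (mul_mem hy' (br_mem_normal hz _).1) (inv_mem (mul_mem hQ hz.1))), ?_⟩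
    have e1 : br (y * z) g⁻¹ = br y g⁻¹ * br z g⁻¹ := by
      rw [br_mul_left, mul_assoc z⁻¹, ← (S.zc_comm hz hy').eq, inv_mul_cancel_left]
    rw [comm_eq_br, e1, ← mul_assoc (br y g⁻¹), ← conj_eq_mul_br, inv_inv]

theorem chief_degree_four (hp : 5 ≤ p) {g : X} (hg : g ∈ A) {U V : Subgroup X} (hUV : IsChiefFactor U V)
    (hU : U ≤ Q) : iterCommutator U (zpowers g) 4 ≤ V := by
  haveI := S.crit.normal
  haveI := S.zc_normal'
  haveI := hUV.2.1
  haveI := hUV.2.2.1
  have hUU : ⁅U, U⁆ ≤ V :=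
    (chiefFactor_pGroup hUV ((CfsgLib.Base.isPGroup_pCore p X).to_le (hU.trans S.crit.le))).1
  refine chief_of_minimal hUV hUU fun U₁ hU₁n hU₁U hU₁V hsmall x hx => ?_
  haveI := hU₁n
  by_cases hZ : U₁ ≤ Q ⊓ centralizer (Q : Set X)
  · have hch : IsChiefFactor U₁ (U₁ ⊓ V) := by
      refine ⟨lt_of_le_of_ne inf_le_left fun e => hU₁V (e ▸ inf_le_right), hU₁n, inferInstance,
        fun N hN hle hNU => ?_⟩
      by_cases hne : N = U₁
      · exact Or.inr hne
      · exact Or.inl (le_antisymm (le_inf hNU (hsmall N hN hNU hne)) hle)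
    exact (iterCommutator_antitone_le (show 3 ≤ 4 by omega) ((S.degree_three (by omega) hg hch hZ).trans inf_le_right))
      (iterate_mem_iterCommutator hx _)
  · have hle : U₁ ⊓ (Q ⊓ centralizer (Q : Set X)) ≤ V :=
      hsmall _ inferInstance inf_le_left fun e => hZ (e ▸ inf_le_right)
    refine hle ⟨?_, ?_⟩
    · induction (4 : ℕ) with
      | zero => exact hx
      | succ k ih => rw [Function.iterate_succ_apply']; exact comm_mem_of_mem ih
    · obtain ⟨-, z, hz, he⟩ := S.iterate_congr g (hU (hU₁U hx)) 4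
      rw [he]
      refine mul_mem ?_ hz
      simp only [Function.iterate_succ_apply', Function.iterate_zero_apply]
      exact S.degree_four hp (hU (hU₁U hx)) (A.inv_mem hg)

/-- Degree six on the chief factors inside `O_p`. -/
theorem degree_six (hp : 5 ≤ p) {g : X} (hg : g ∈ A) :
    ∀ U V : Subgroup X, IsChiefFactor U V → U ≤ pCore p X → iterCommutator U (zpowers g) 6 ≤ V := by
  haveI := S.crit.normal
  haveI : (pc p X).Normal := pCore_normal p X
  exact factor_bound (i := 4) (j := 3) (CfsgLib.Base.isPGroup_pCore p X) S.crit.le S.crit.comm S.hAC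
    (by omega) (fun U V hUV hU => S.chief_degree_four hp hg hUV hU)
    (fun U V hUV hU => S.degree_three (by omega) hg hUV hU)

end Setup

end CfsgLib.PLocal.TTransfer
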