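import Cfsg.Agent.Lib.PLocal.ThompsonTransfer.Weights

/-!
The bound on the second commutators of an element of the critical subgroup with `A`.
-/

set_option autoImplicit false
set_option linter.unusedSectionVars false
set_option linter.style.haveILetI false

namespace CfsgLib.PLocal.TTransfer

open Cfsg Subgroup CfsgLib.KInf
open scoped commutatorElement

variable {X : Type*} [Group X] [Finite X] {p : ℕ} [Fact p.Prime] {T Q A : Subgroup X}

/-- The subgroup generated by the second commutators of `x` with `A`. -/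
def secondComm (x : X) (A : Subgroup X) : Subgroup X :=
  closure {m | ∃ b ∈ A, ∃ c ∈ A, br (br x b) c = m}

namespace Setup

variable (S : Setup p T Q A) {x : X} (hx : x ∈ Q)
  (hG : ∀ a ∈ A, ∀ b ∈ A, ∀ c ∈ A, Commute (br x a) (br (br x b) c))
include S hx hG

theorem secondComm_le : secondComm x A ≤ Q := by
  haveI := S.crit.normal
  refine (closure_le _).2 ?_
  rintro _ ⟨b, -, c, -, rfl⟩
  exact br_mem_normal (br_mem_normal hx b) c

theorem gen_eq {b c : X} (hb : b ∈ A) (hc : c ∈ A) :
    br (br x b) c = (br x c * br x b)⁻¹ * br x (b * c) := by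
  rw [br_mul_right, conj_eq_mul_br (br x b) c]; group

theorem commute_t {m : X} (hm : m ∈ secondComm x A) {a : X} (ha : a ∈ A) : Commute (br x a) m := by
  induction hm using closure_induction with
  | mem m hm =>
    obtain ⟨b, hb, c, hc, rfl⟩ := hm
    exact hG a ha b hb c hc
  | one => exact Commute.one_right _
  | mul u v _ _ h1 h2 => exact h1.mul_right h2
  | inv u _ h1 => exact h1.inv_right

theorem commute_W {m m' : X} (hm : m ∈ secondComm x A) (hm' : m' ∈ secondComm x A) : Commute m m' := by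
  induction hm' using closure_induction with
  | mem m' hm' =>
    obtain ⟨b, hb, c, hc, rfl⟩ := hm'
    rw [S.gen_eq hx hG hb hc]
    exact (((S.commute_t hx hG hm hc).symm.mul_right (S.commute_t hx hG hm hb).symm).inv_right).mul_right
      (S.commute_t hx hG hm (A.mul_mem hb hc)).symm
  | one => exact Commute.one_right _
  | mul u v _ _ h1 h2 => exact h1.mul_right h2
  | inv u _ h1 => exact h1.inv_right

theorem gen_mem {b c : X} (hb : b ∈ A) (hc : c ∈ A) : br (br x b) c ∈ secondComm x A :=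
  subset_closure ⟨b, hb, c, hc, rfl⟩

theorem br_mem_W {m : X} (hm : m ∈ secondComm x A) {e : X} (he : e ∈ A) : br m e ∈ secondComm x A := by
  have key : e⁻¹ * m * e ∈ secondComm x A := by
    induction hm using closure_induction with
    | mem m hm =>
      obtain ⟨b, hb, c, hc, rfl⟩ := hm
      have h : e⁻¹ * br (br x b) c * e = (br (br x b) e)⁻¹ * br (br x b) (c * e) := by
        rw [br_mul_right, inv_mul_cancel_left]
      rw [h]
      exact mul_mem (inv_mem (S.gen_mem hx hG hb he)) (S.gen_mem hx hG hb (A.mul_mem hc he))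
    | one => simp
    | mul u v _ _ h1 h2 =>
      rw [show e⁻¹ * (u * v) * e = e⁻¹ * u * e * (e⁻¹ * v * e) by group]
      exact mul_mem h1 h2
    | inv u _ h1 =>
      rw [show e⁻¹ * u⁻¹ * e = (e⁻¹ * u * e)⁻¹ by group]
      exact inv_mem h1
  exact mul_mem (inv_mem hm) key

theorem br_hom {m m' : X} (hm : m ∈ secondComm x A) (hm' : m' ∈ secondComm x A) {e : X} (he : e ∈ A) :
    br (m * m') e = br m e * br m' e := by
  rw [br_mul_left, mul_assoc m'⁻¹, (S.commute_W hx hG (S.br_mem_W hx hG hm he) hm').eq, inv_mul_cancel_left]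

theorem br_gh {m : X} (hm : m ∈ secondComm x A) {g h : X} (hg : g ∈ A) (hh : h ∈ A) :
    br (br m g) h = br (br m h) g := by
  have e1 : ∀ u v : X, br (br m u) v = (br m u)⁻¹ * ((br m v)⁻¹ * br m (u * v)) := fun u v => by
    rw [br_mul_right m u v, inv_mul_cancel_left]; rfl
  rw [e1 g h, e1 h g, (S.Ac h hh g hg).eq, ← mul_assoc, ← mul_assoc,
    ((S.commute_W hx hG (S.br_mem_W hx hG hm hg) (S.br_mem_W hx hG hm hh)).inv_inv).eq]

theorem form_mem {a b : X} (ha : a ∈ A) (hb : b ∈ A) : br (br x a) (br x b) ∈ A := by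
  haveI := S.crit.normal
  have hQa := br_mem_normal (H := Q) hx a
  have hQb := br_mem_normal (H := Q) hx b
  have hF := S.br_zpc hQa hQb
  refine S.mem_of_commute (S.PT hF.1) fun c hc => br_eq_one.1 ?_
  have hua := br_mem_normal (H := Q) hQa c
  have hub := br_mem_normal (H := Q) hQb c
  have h1 := br_conj c (br x a) (br x b)
  rw [conj_eq_mul_br (br x a) c, conj_eq_mul_br (br x b) c, S.br_add_left hQa hua (mul_mem hQb hub),
    S.br_add_right hQa hQb hub, S.br_add_right hua hQb hub, br_eq_one.2 (hG a ha b hb c hc),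
    br_eq_one.2 (hG b hb a ha c hc).symm,
    br_eq_one.2 (S.commute_W hx hG (S.gen_mem hx hG ha hc) (S.gen_mem hx hG hb hc))] at h1
  simp only [mul_one] at h1
  rw [conj_eq_mul_br] at h1
  exact mul_eq_left.1 h1

theorem gen_swap {a b : X} (ha : a ∈ A) (hb : b ∈ A) :
    br (br x b) a = br (br x b) (br x a) * br (br x a) b := by
  have h : br x b * br x a * br (br x a) b = br x a * br x b * br (br x b) a := by
    have h1 := br_mul_right x a b
    have h2 := br_mul_right x b a
    rw [conj_eq_mul_br] at h1 h2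
    rw [mul_assoc, mul_assoc, ← h1, ← h2, (S.Ac a ha b hb).eq]
  generalize br (br x b) a = v at h ⊢
  generalize br (br x a) b = u at h ⊢
  rw [mul_assoc (br x a), ← eq_inv_mul_iff_mul_eq] at h
  rw [br]
  simp only [h, mul_assoc]
  group

theorem s3_fg {f g h : X} (hf : f ∈ A) (hg : g ∈ A) (hh : h ∈ A) :
    br (br (br x f) g) h = br (br (br x g) f) h := by
  rw [S.gen_swap hx hG hg hf, br_mul_left,
    br_eq_one.2 (S.Ac _ (S.form_mem hx hG hf hg) h hh), mul_one, inv_mul_cancel, one_mul]

/-- An element outside `O_p` with `[x, d]` small forces the second commutators into `A`. -/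
theorem no_outside {d β z w : X} (hd : d ∈ A) (hdP : d ∉ pc p X) (hβ : β ∈ A) (hβQ : β ∈ Q)
    (hz : z ∈ zpc p X) (hw : w ∈ secondComm x A) (he : br x d = β * z * w) :
    ∀ m ∈ secondComm x A, m ∈ A := by
  haveI := S.crit.normal
  have hude : ∀ e ∈ A, br (br x d) e = br z e * br w e := by
    intro e he'
    rw [he, br_mul_left, br_mul_left, br_eq_one.2 (S.Ac β hβ e he'), mul_one, inv_mul_cancel, one_mul,
      mul_assoc w⁻¹, (S.zpc_comm (br_mem_normal hz e : br z e ∈ zpc p X)
        (S.QP (S.secondComm_le hx hG hw))).eq, inv_mul_cancel_left]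
  have key : ∀ e ∈ A, ∀ c ∈ A, br (br (br x e) c) d = br (br w e) c := by
    intro e he' c hc
    have h1 : br (br (br x e) c) d = br (br (br x e) d) c := by
      have e1 : ∀ u v : X, br (br (br x e) u) v
          = (br (br x e) u)⁻¹ * ((br (br x e) v)⁻¹ * br (br x e) (u * v)) := fun u v => by
        rw [br_mul_right (br x e) u v, inv_mul_cancel_left]; rfl
      rw [e1 c d, e1 d c, (S.Ac d hd c hc).eq, ← mul_assoc, ← mul_assoc,
        ((S.commute_W hx hG (S.gen_mem hx hG he' hc) (S.gen_mem hx hG he' hd)).inv_inv).eq]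
    rw [h1, S.gen_swap hx hG hd he', hude e he', ← mul_assoc, br_mul_left,
      br_eq_one.2 (S.Ac _ (A.mul_mem (S.form_mem hx hG he' hd) (S.zpc_br_mem hz he')) c hc), mul_one,
      inv_mul_cancel, one_mul]
  have hθ : ∀ m' ∈ secondComm x A, ∃ θ : X → X,
      (∀ m ∈ secondComm x A, θ m ∈ secondComm x A) ∧
      (∀ m ∈ secondComm x A, ∀ n ∈ secondComm x A, θ (m * n) = θ m * θ n) ∧
      (∀ e ∈ A, ∀ c ∈ A, θ (br (br x e) c) = br (br m' e) c) ∧
      (∀ m ∈ secondComm x A, (∀ a ∈ A, ∀ b ∈ A, br (br m a) b = 1) → θ m = 1) := by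
    intro m' hm'
    induction hm' using closure_induction with
    | mem m' hm' =>
      obtain ⟨f, hf, g, hg, rfl⟩ := hm'
      refine ⟨fun m => br (br m f) g, fun m hm => S.br_mem_W hx hG (S.br_mem_W hx hG hm hf) hg,
        fun m hm n hn => ?_, fun e he' c hc => ?_, fun m _ h => h f hf g hg⟩
      · show br (br (m * n) f) g = br (br m f) g * br (br n f) g
        rw [S.br_hom hx hG hm hn hf, S.br_hom hx hG (S.br_mem_W hx hG hm hf) (S.br_mem_W hx hG hn hf) hg]
      · show br (br (br (br x e) c) f) g = br (br (br (br x f) g) e) c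
        have hgh : ∀ {a b c' : X}, a ∈ A → b ∈ A → c' ∈ A →
            br (br (br x a) b) c' = br (br (br x a) c') b := by
          intro a b c' ha hb hc'
          have e1 : ∀ u v : X, br (br (br x a) u) v
              = (br (br x a) u)⁻¹ * ((br (br x a) v)⁻¹ * br (br x a) (u * v)) := fun u v => by
            rw [br_mul_right (br x a) u v, inv_mul_cancel_left]; rfl
          rw [e1 b c', e1 c' b, (S.Ac c' hc' b hb).eq, ← mul_assoc, ← mul_assoc,
            ((S.commute_W hx hG (S.gen_mem hx hG ha hb) (S.gen_mem hx hG ha hc')).inv_inv).eq]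
        rw [hgh he' hc hf, S.s3_fg hx hG he' hf hc, S.br_gh hx hG (S.gen_mem hx hG hf he') hc hg,
          hgh hf he' hg]
    | one =>
      exact ⟨fun _ => 1, fun _ _ => one_mem _, fun _ _ _ _ => (mul_one 1).symm,
        fun e he' c hc => by simp [br_one_left], fun _ _ _ => rfl⟩
    | mul u v hu hv h1 h2 =>
      obtain ⟨θ, a1, a2, a3, a4⟩ := h1
      obtain ⟨η, b1, b2, b3, b4⟩ := h2
      refine ⟨fun m => θ m * η m, fun m hm => mul_mem (a1 m hm) (b1 m hm), fun m hm n hn => ?_,
        fun e he' c hc => ?_, fun m hm h => by show θ m * η m = 1; rw [a4 m hm h, b4 m hm h, one_mul]⟩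
      · show θ (m * n) * η (m * n) = θ m * η m * (θ n * η n)
        rw [a2 m hm n hn, b2 m hm n hn]
        exact Commute.mul_mul_mul_comm (S.commute_W hx hG (a1 n hn) (b1 m hm)) _ _
      · show θ _ * η _ = _
        rw [a3 e he' c hc, b3 e he' c hc, S.br_hom hx hG hu hv he',
          S.br_hom hx hG (S.br_mem_W hx hG hu he') (S.br_mem_W hx hG hv he') hc]
    | inv u hu h1 =>
      obtain ⟨θ, a1, a2, a3, a4⟩ := h1
      have hinv : ∀ {v : X}, v ∈ secondComm x A → ∀ {a : X}, a ∈ A → br v⁻¹ a = (br v a)⁻¹ := by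
        intro v hv a ha
        refine eq_inv_of_mul_eq_one_left ?_
        rw [← S.br_hom hx hG (inv_mem hv) hv ha, inv_mul_cancel, br_one_left]
      refine ⟨fun m => (θ m)⁻¹, fun m hm => inv_mem (a1 m hm), fun m hm n hn => ?_,
        fun e he' c hc => ?_, fun m hm h => by show (θ m)⁻¹ = 1; rw [a4 m hm h, inv_one]⟩
      · show (θ (m * n))⁻¹ = (θ m)⁻¹ * (θ n)⁻¹
        rw [a2 m hm n hn]
        exact (S.commute_W hx hG (a1 m hm) (a1 n hn)).mul_inv
      · show (θ _)⁻¹ = _
        rw [a3 e he' c hc, hinv hu he', hinv (S.br_mem_W hx hG hu he') hc]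
  obtain ⟨θ, -, θmul, θgen, θkill⟩ := hθ w hw
  have θone : θ 1 = 1 := by
    have h := θmul 1 (one_mem _) 1 (one_mem _)
    rw [one_mul] at h
    exact left_eq_mul.1 h
  have hd' : ∀ m ∈ secondComm x A, br m d = θ m := by
    intro m hm
    induction hm using closure_induction with
    | mem m hm =>
      obtain ⟨e, he', c, hc, rfl⟩ := hm
      rw [key e he' c hc, θgen e he' c hc]
    | one => rw [br_one_left, θone]
    | mul u v hu hv h1 h2 => rw [S.br_hom hx hG hu hv hd, θmul u hu v hv, h1, h2]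
    | inv u hu h1 =>
      refine mul_left_cancel (a := br u d) ?_
      conv_rhs => rw [h1, ← θmul u hu _ (inv_mem hu), mul_inv_cancel, θone]
      rw [← S.br_hom hx hG hu (inv_mem hu) hd, mul_inv_cancel, br_one_left]
  have hkill : ∀ m ∈ secondComm x A, (∀ a ∈ A, ∀ b ∈ A, br (br m a) b = 1) → Commute d m := fun m hm h =>
    (br_eq_one.1 ((hd' m hm).trans (θkill m hm h))).symm
  by_cases hBad : ∃ m ∈ secondComm x A, ∃ a ∈ A, br m a ∉ A
  · exfalso
    obtain ⟨m₀, hm₀, hb₀⟩ := hBad
    obtain ⟨y, ⟨hy, a₀, ha₀, hya⟩, hlast⟩ := S.exists_last (Bad := fun m => m ∈ secondComm x A ∧ ∃ a ∈ A, br m a ∉ A)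
      (fun h => by obtain ⟨a, -, ha⟩ := h.2; exact ha (by rw [br_one_left]; exact one_mem _))
      (fun m hm => S.QT (S.secondComm_le hx hG hm.1)) ⟨hm₀, hb₀⟩
    refine hya (S.br_mem_of_centralizer (S.secondComm_le hx hG hy)
      (fun a ha b hb => S.commute_W hx hG (S.br_mem_W hx hG hy ha) (S.br_mem_W hx hG hy hb))
      ⟨d, hd, hdP, fun a ha => hkill _ (S.br_mem_W hx hG hy ha) fun b hb c hc => ?_⟩ a₀ ha₀)
    refine br_eq_one.2 (S.Ac _ ?_ c hc)
    by_contra hbad
    exact hlast a ha ⟨S.br_mem_W hx hG hy ha, b, hb, hbad⟩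
  · push Not at hBad
    refine fun m hm => (closure_le (K := A)).2 ?_ hm
    rintro _ ⟨b, hb, c, hc, rfl⟩
    refine S.br_mem_of_centralizer (br_mem_normal hx b)
      (fun a ha a' ha' => S.commute_W hx hG (S.gen_mem hx hG hb ha) (S.gen_mem hx hG hb ha'))
      ⟨d, hd, hdP, fun a ha => hkill _ (S.gen_mem hx hG hb ha) fun e he' f hf =>
        br_eq_one.2 (S.Ac _ (hBad _ (S.gen_mem hx hG hb ha) e he') f hf)⟩ c hc

end Setup

end CfsgLib.PLocal.TTransfer
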