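import Cfsg.Agent.Lib.KInf.Degree
import Cfsg.Agent.Lib.LocalEven.CommutatorAB

/-!
Abelian subgroups of largest order of a Sylow subgroup acting on a critical subgroup of `O_p`.
-/

set_option autoImplicit false
set_option linter.unusedSectionVars false
set_option linter.style.haveILetI false

namespace CfsgLib.PLocal.TTransfer

open Cfsg Subgroup CfsgLib.KInf
open scoped commutatorElement

variable {X : Type*} [Group X]

/-- The commutator `x⁻¹ a⁻¹ x a`. -/
def br (x a : X) : X := x⁻¹ * (a⁻¹ * x * a)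

theorem br_eq_one {x a : X} : br x a = 1 ↔ Commute x a := by
  unfold br Commute SemiconjBy
  rw [inv_mul_eq_one, mul_assoc, eq_inv_mul_iff_mul_eq, eq_comm]

theorem conj_eq_mul_br (x a : X) : a⁻¹ * x * a = x * br x a := by simp [br]

theorem br_mul_left (x y a : X) : br (x * y) a = y⁻¹ * br x a * y * br y a := by simp only [br]; group

theorem br_mul_right (x a b : X) : br x (a * b) = br x b * (b⁻¹ * br x a * b) := by simp only [br]; group

theorem br_one_left (a : X) : br (1 : X) a = 1 := by simp [br]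

theorem br_one_right (x : X) : br x 1 = 1 := by simp [br]

theorem br_inv (x y : X) : (br x y)⁻¹ = br y x := by simp only [br]; group

theorem br_conj (a x y : X) : a⁻¹ * br x y * a = br (a⁻¹ * x * a) (a⁻¹ * y * a) := by simp only [br]; group

theorem br_eq_commutator (x a : X) : br x a = ⁅x⁻¹, a⁻¹⁆ := by simp only [br, commutatorElement_def]; group

theorem br_mem {H K : Subgroup X} {x a : X} (hx : x ∈ H) (ha : a ∈ K) : br x a ∈ ⁅H, K⁆ := by
  rw [br_eq_commutator]; exact commutator_mem_commutator (inv_mem hx) (inv_mem ha)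

theorem br_mem_normal {H : Subgroup X} [hH : H.Normal] {x : X} (hx : x ∈ H) (a : X) : br x a ∈ H := by
  refine mul_mem (inv_mem hx) ?_
  simpa using hH.conj_mem x hx a⁻¹

theorem conj_mem' {H : Subgroup X} [hH : H.Normal] {x : X} (hx : x ∈ H) (a : X) : a⁻¹ * x * a ∈ H := by
  simpa using hH.conj_mem x hx a⁻¹

theorem commute_closure {S : Set X} (h : ∀ a ∈ S, ∀ b ∈ S, Commute a b) :
    ∀ a ∈ closure S, ∀ b ∈ closure S, Commute a b := by
  intro a ha b hb
  induction ha, hb using closure_induction₂ with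
  | mem x y hx hy => exact h x hx y hy
  | one_left x hx => exact Commute.one_left x
  | one_right x hx => exact Commute.one_right x
  | mul_left x y z _ _ _ h1 h2 => exact h1.mul_left h2
  | mul_right y z x _ _ _ h1 h2 => exact h1.mul_right h2
  | inv_left x y _ _ h1 => exact h1.inv_left
  | inv_right x y _ _ h1 => exact h1.inv_right

theorem card_map_mul {Y : Type*} [Group Y] (H : Subgroup X) (φ : X →* Y) :
    Nat.card H = Nat.card (H.map φ) * Nat.card ↥(H ⊓ φ.ker) := by
  have h1 := (φ.comp H.subtype).ker.card_mul_index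
  rw [Subgroup.index_ker, MonoidHom.range_comp, H.range_subtype] at h1
  rw [← h1, mul_comm]
  congr 1
  refine Nat.card_congr ⟨fun k => ⟨((k : H) : X), (k : H).2, k.2⟩, fun z => ⟨⟨z, z.2.1⟩, z.2.2⟩, fun k => rfl,
    fun z => rfl⟩

/-- `O_p(X)`. -/
abbrev pc (p : ℕ) (X : Type*) [Group X] : Subgroup X := pCore p X

/-- The centre of `O_p(X)`. -/
def zpc (p : ℕ) (X : Type*) [Group X] : Subgroup X := pc p X ⊓ centralizer (pc p X : Set X)

instance zpc_normal (p : ℕ) : (zpc p X).Normal := by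
  haveI : (pc p X).Normal := pCore_normal p X
  unfold zpc
  infer_instance

/-- An abelian subgroup `A` of the Sylow subgroup `T`, not in `O_p`, of largest order and best placed. -/
structure Setup (p : ℕ) (T Q A : Subgroup X) : Prop where
  crit : Critical p Q
  hAC : pc p X ⊓ centralizer (Q : Set X) ≤ Q
  Tp : IsPGroup p T
  PT : pc p X ≤ T
  AT : A ≤ T
  Ac : ∀ a ∈ A, ∀ b ∈ A, Commute a b
  AP : ¬ A ≤ pc p X
  maxCard : ∀ Y : Subgroup X, Y ≤ T → (∀ a ∈ Y, ∀ b ∈ Y, Commute a b) → Nat.card Y ≤ Nat.card A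
  maxLex : ∀ Y : Subgroup X, Y ≤ T → (∀ a ∈ Y, ∀ b ∈ Y, Commute a b) → Nat.card Y = Nat.card A →
    ¬ Y ≤ pc p X → Nat.card ↥(A ⊓ pc p X) ≤ Nat.card ↥(Y ⊓ pc p X) →
    Nat.card ↥(Y ⊓ pc p X) ≤ Nat.card ↥(A ⊓ pc p X) ∧
      Nat.card ↥(Y ⊓ (Q ⊓ centralizer (Q : Set X))) ≤ Nat.card ↥(A ⊓ (Q ⊓ centralizer (Q : Set X)))

namespace Setup

variable [Finite X] {p : ℕ} [Fact p.Prime] {T Q A : Subgroup X} (S : Setup p T Q A)
include S

theorem QT : Q ≤ T := S.crit.le.trans S.PT

theorem QP {x : X} (hx : x ∈ Q) : x ∈ pc p X := S.crit.le hx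

theorem zpc_comm {z q : X} (hz : z ∈ zpc p X) (hq : q ∈ pc p X) : Commute z q := (hz.2 q hq).symm

theorem zc_comm {z q : X} (hz : z ∈ Q ⊓ centralizer (Q : Set X)) (hq : q ∈ Q) : Commute z q := (hz.2 q hq).symm

theorem zpc_le : zpc p X ≤ Q ⊓ centralizer (Q : Set X) := by
  intro z hz
  have h : z ∈ centralizer (Q : Set X) := fun q hq => hz.2 q (S.QP hq)
  exact ⟨S.hAC ⟨hz.1, h⟩, h⟩

theorem br_zc {q r : X} (hq : q ∈ Q) (hr : r ∈ pc p X) : br q r ∈ Q ⊓ centralizer (Q : Set X) :=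
  S.crit.comm (Subgroup.commutator_comm Q (pc p X) ▸ br_mem hq hr)

theorem br_zpc {q q' : X} (hq : q ∈ Q) (hq' : q' ∈ Q) : br q q' ∈ zpc p X := by
  have h : ⁅⁅Q, Q⁆, pc p X⁆ = ⊥ := by
    have h1 : ⁅⁅pc p X, Q⁆, Q⁆ = ⊥ :=
      commutator_eq_bot_iff_le_centralizer.2 (S.crit.comm.trans inf_le_right)
    refine commutator_commutator_eq_bot_of_rotate ?_ h1
    rwa [Subgroup.commutator_comm Q (pc p X)]
  refine ⟨S.QP (S.br_zc hq (S.QP hq')).1, fun r hr => ?_⟩
  exact (commutator_eq_bot_iff_le_centralizer.1 h) (br_mem hq hq') r hr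

theorem br_add_left {x y q : X} (hx : x ∈ Q) (hy : y ∈ Q) (hq : q ∈ Q) :
    br (x * y) q = br x q * br y q := by
  rw [br_mul_left, mul_assoc y⁻¹, (S.zpc_comm (S.br_zpc hx hq) (S.QP hy)).eq, inv_mul_cancel_left]

theorem br_add_right {q x y : X} (hq : q ∈ Q) (hx : x ∈ Q) (hy : y ∈ Q) :
    br q (x * y) = br q x * br q y := by
  rw [br_mul_right, mul_assoc y⁻¹, (S.zpc_comm (S.br_zpc hq hx) (S.QP hy)).eq, inv_mul_cancel_left,
    (S.zpc_comm (S.br_zpc hq hy) (S.QP (S.zpc_le (S.br_zpc hq hx)).1)).eq]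

/-- (M2) -/
theorem mem_of_commute {x : X} (hx : x ∈ T) (h : ∀ a ∈ A, Commute x a) : x ∈ A := by
  set Y := closure ((A : Set X) ∪ {x}) with hY
  have hYT : Y ≤ T := (closure_le _).2 (Set.union_subset S.AT (Set.singleton_subset_iff.2 hx))
  have hc : ∀ a ∈ Y, ∀ b ∈ Y, Commute a b := commute_closure <| by
    rintro a (ha | rfl) b (hb | rfl)
    exacts [S.Ac a ha b hb, (h a ha).symm, h b hb, Commute.refl _]
  have hle : A ≤ Y := fun a ha => subset_closure (Or.inl ha)
  rw [Subgroup.eq_of_le_of_card_ge hle (S.maxCard Y hYT hc)]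
  exact subset_closure (Or.inr rfl)

/-- (INJ) -/
theorem commute_of_mem {y : X} {c e : X} (hc : c ∈ A) (he : e ∈ A) (h : br y c ∈ A)
    (hcom : Commute (br y c) (br y e)) : Commute c (br y e) := by
  have h1 := br_mul_right y c e
  have h2 := br_mul_right y e c
  rw [(S.Ac c hc e he).eq, h2] at h1
  have h3 : e⁻¹ * br y c * e = br y c := by
    rw [mul_assoc, ← (S.Ac e he _ h).eq, inv_mul_cancel_left]
  rw [h3, ← hcom.eq] at h1
  have h4 := mul_left_cancel h1
  rw [mul_assoc, inv_mul_eq_iff_eq_mul] at h4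
  exact h4.symm

/-- The inverse conjugates of a value lying in `A`. -/
theorem br_cocycle {y a d : X} (hy : br y d ∈ A) (ha : a ∈ A) : br y (d * a) = br y a * br y d := by
  rw [br_mul_right, mul_assoc a⁻¹, (S.Ac _ hy a ha).eq, inv_mul_cancel_left]


theorem card_le_of_inj {y : X} (hW : ∀ a ∈ A, ∀ b ∈ A, Commute (br y a) (br y b)) (H : Subgroup X)
    (hCH : ∀ c ∈ A, (∀ a ∈ A, Commute c (br y a)) → c ∈ H) (hWH : ∀ a ∈ A, br y a ∈ H) :
    Nat.card A ≤ Nat.card H := by
  classical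
  set C : Subgroup X := A ⊓ centralizer {w | ∃ a ∈ A, br y a = w} with hC
  have hCmem : ∀ c, c ∈ C ↔ c ∈ A ∧ ∀ a ∈ A, Commute c (br y a) := by
    intro c
    refine ⟨fun h => ⟨h.1, fun a ha => (h.2 _ ⟨a, ha, rfl⟩).symm⟩, fun h => ⟨h.1, ?_⟩⟩
    rintro _ ⟨a, ha, rfl⟩
    exact (h.2 a ha).symm
  let r : A → A := fun a => (QuotientGroup.mk (s := C.subgroupOf A) a).out
  have hr : ∀ a, ((r a)⁻¹ * a : A) ∈ C.subgroupOf A := fun a => by
    rw [← QuotientGroup.eq]; exact QuotientGroup.out_eq' _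
  refine Nat.card_le_card_of_injective
    (fun a => (⟨br y (r a) * ((r a)⁻¹ * a : A), H.mul_mem (hWH _ (r a).2)
      (hCH _ ((hCmem _).1 (hr a)).1 ((hCmem _).1 (hr a)).2)⟩ : H)) ?_
  intro a b hab
  have hab' : br y (r a) * (((r a)⁻¹ * a : A) : X) = br y (r b) * (((r b)⁻¹ * b : A) : X) :=
    congrArg Subtype.val hab
  have hd : br y ((r b : X) * (r a : X)⁻¹) ∈ A := by
    have h1 : br y (r b) = br y (r a) * ((r a : X)⁻¹ * br y ((r b : X) * (r a : X)⁻¹) * r a) := by
      rw [← br_mul_right, inv_mul_cancel_right]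
    have h2 : (r a : X)⁻¹ * br y ((r b : X) * (r a : X)⁻¹) * r a ∈ A := by
      have h3 : (r a : X)⁻¹ * br y ((r b : X) * (r a : X)⁻¹) * r a =
          (((r a)⁻¹ * a : A) : X) * (((r b)⁻¹ * b : A) : X)⁻¹ := by
        refine eq_mul_inv_of_mul_eq (mul_left_cancel (a := br y (r a)) ?_)
        rw [← mul_assoc, ← h1]; exact hab'.symm
      rw [h3]
      exact A.mul_mem (SetLike.coe_mem _) (A.inv_mem (SetLike.coe_mem _))
    have h4 := A.mul_mem (A.mul_mem (r a).2 h2) (A.inv_mem (r a).2)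
    simpa [mul_assoc] using h4
  have hC' : (r b * (r a)⁻¹ : A) ∈ C.subgroupOf A := by
    rw [mem_subgroupOf, hCmem]
    refine ⟨SetLike.coe_mem _, fun e he => ?_⟩
    refine S.commute_of_mem (SetLike.coe_mem _) he (by simpa using hd) ?_
    simpa using hW _ (A.mul_mem (r b).2 (A.inv_mem (r a).2)) e he
  have hq : (QuotientGroup.mk (s := C.subgroupOf A) a) = QuotientGroup.mk (s := C.subgroupOf A) b := by
    have e1 : (QuotientGroup.mk (s := C.subgroupOf A) (r a)) = QuotientGroup.mk (s := C.subgroupOf A) (r b) := by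
      rw [QuotientGroup.eq]
      have h5 : (r a)⁻¹ * r b = r b * (r a)⁻¹ := Subtype.ext (S.Ac _ (A.inv_mem (r a).2) _ (r b).2).eq
      rw [h5]; exact hC'
    simpa [r] using e1
  have hre : r a = r b := congrArg Quotient.out hq
  rw [hre] at hab'
  exact mul_left_cancel (Subtype.ext (mul_left_cancel hab'))

/-- (Lemma D) -/
theorem br_mem_of_centralizer {y : X} (hy : y ∈ Q) (hW : ∀ a ∈ A, ∀ b ∈ A, Commute (br y a) (br y b))
    (hC : ∃ c ∈ A, c ∉ pc p X ∧ ∀ a ∈ A, Commute c (br y a)) : ∀ a ∈ A, br y a ∈ A := by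
  haveI := S.crit.normal
  haveI : (pc p X).Normal := pCore_normal p X
  obtain ⟨c₀, hc₀, hc₀P, hc₀c⟩ := hC
  set Wg : Set X := {w | ∃ a ∈ A, br y a = w} with hWg
  have hWQ : Wg ⊆ Q := by rintro _ ⟨a, -, rfl⟩; exact br_mem_normal hy a
  set As : Subgroup X := closure (((A ⊓ centralizer Wg : Subgroup X) : Set X) ∪ Wg) with hAs
  have hmC : ∀ c ∈ A, (∀ a ∈ A, Commute c (br y a)) → c ∈ A ⊓ centralizer Wg := fun c h1 h2 => ⟨h1, by
    rintro _ ⟨a, ha, rfl⟩; exact (h2 a ha).symm⟩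
  have hcomm : ∀ a ∈ As, ∀ b ∈ As, Commute a b := commute_closure <| by
    rintro a (ha | ha) b (hb | hb)
    · exact S.Ac a ha.1 b hb.1
    · exact (ha.2 b hb).symm
    · exact hb.2 a ha
    · obtain ⟨a₁, h1, rfl⟩ := ha
      obtain ⟨b₁, h2, rfl⟩ := hb
      exact hW a₁ h1 b₁ h2
  have hAsT : As ≤ T := (closure_le _).2 (Set.union_subset (fun a ha => S.AT ha.1) (hWQ.trans S.QT))
  have hcard : Nat.card As = Nat.card A := le_antisymm (S.maxCard As hAsT hcomm)
    (S.card_le_of_inj hW As (fun c h1 h2 => subset_closure (Or.inl (hmC c h1 h2)))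
      (fun a ha => subset_closure (Or.inr ⟨a, ha, rfl⟩)))
  have hAsP : ¬ As ≤ pc p X := fun h => hc₀P (h (subset_closure (Or.inl (hmC c₀ hc₀ hc₀c))))
  set π := QuotientGroup.mk' (pc p X) with hπ
  have hmap : As.map π = (A ⊓ centralizer Wg).map π := by
    rw [hAs, Subgroup.closure_union, Subgroup.map_sup, Subgroup.closure_eq, sup_eq_left]
    refine le_trans (le_of_eq ((Subgroup.map_eq_bot_iff _).2 ?_)) bot_le
    rw [hπ, QuotientGroup.ker_mk']
    exact (closure_le _).2 fun w hw => S.QP (hWQ hw)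
  have hker : π.ker = pc p X := QuotientGroup.ker_mk' _
  have e1 := card_map_mul As π
  have e2 := card_map_mul A π
  rw [hker, hcard, hmap] at e1
  rw [hker] at e2
  have hle : Nat.card ↥((A ⊓ centralizer Wg).map π) ≤ Nat.card ↥(A.map π) :=
    Subgroup.card_le_of_le (map_mono inf_le_left)
  have hpos : 0 < Nat.card ↥((A ⊓ centralizer Wg).map π) := Nat.card_pos
  have hge : Nat.card ↥(A ⊓ pc p X) ≤ Nat.card ↥(As ⊓ pc p X) := by
    refine Nat.le_of_mul_le_mul_left ?_ hpos
    rw [← e1, e2]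
    exact Nat.mul_le_mul_right _ hle
  obtain ⟨hPle, hZle⟩ := S.maxLex As hAsT hcomm hcard hAsP hge
  have hmapA : (A ⊓ centralizer Wg).map π = A.map π := by
    refine Subgroup.eq_of_le_of_card_ge (map_mono inf_le_left) ?_
    have h1 : Nat.card ↥(As ⊓ pc p X) = Nat.card ↥(A ⊓ pc p X) := le_antisymm hPle hge
    rw [h1] at e1
    exact (Nat.eq_of_mul_eq_mul_right Nat.card_pos (e2.symm.trans e1)).le
  have hZ : As ⊓ (Q ⊓ centralizer (Q : Set X)) = A ⊓ (Q ⊓ centralizer (Q : Set X)) := by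
    refine (Subgroup.eq_of_le_of_card_ge ?_ hZle).symm
    intro z hz
    refine ⟨subset_closure (Or.inl ⟨hz.1, fun w hw => hz.2.2 w (hWQ hw)⟩), hz.2⟩
  have hR : ∀ r ∈ A, r ∈ pc p X → ∀ a ∈ A, Commute r (br y a) := by
    intro r hr hrP a ha
    have h1 : br y r ∈ As ⊓ (Q ⊓ centralizer (Q : Set X)) :=
      ⟨subset_closure (Or.inr ⟨r, hr, rfl⟩), S.br_zc hy hrP⟩
    rw [hZ] at h1
    exact S.commute_of_mem hr ha h1.1 (hW r hr a ha)
  have hall : ∀ b ∈ A, ∀ a ∈ A, Commute b (br y a) := by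
    intro b hb a ha
    have h1 : π b ∈ (A ⊓ centralizer Wg).map π := hmapA ▸ mem_map_of_mem _ hb
    obtain ⟨c, hc, hcb⟩ := h1
    have h2 : c⁻¹ * b ∈ pc p X := (QuotientGroup.eq (s := pc p X)).1 hcb
    have h3 := hR _ (A.mul_mem (A.inv_mem hc.1) hb) h2 a ha
    have h4 : Commute c (br y a) := (hc.2 _ ⟨a, ha, rfl⟩).symm
    simpa using h4.mul_left h3
  exact fun a ha => S.mem_of_commute (S.QT (br_mem_normal hy a)) fun b hb => (hall b hb a ha).symm

/-- (L1) The centre of `O_p` has degree two. -/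
theorem zpc_br_mem {z a : X} (hz : z ∈ zpc p X) (ha : a ∈ A) : br z a ∈ A := by
  have hzQ := (S.zpc_le hz).1
  have hW : ∀ a ∈ A, ∀ b ∈ A, Commute (br z a) (br z b) := fun a _ b _ =>
    S.zpc_comm (br_mem_normal hz a) (br_mem_normal hz b : br z b ∈ zpc p X).1
  by_cases hC : ∃ c ∈ A, c ∉ pc p X ∧ ∀ a ∈ A, Commute c (br z a)
  · exact S.br_mem_of_centralizer hzQ hW hC a ha
  exfalso
  push Not at hC
  set R : Subgroup X := A ⊓ pc p X with hR
  set W : Subgroup X := closure {w | ∃ a ∈ A, br z a = w} with hWdef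
  have hWz : W ≤ zpc p X := (closure_le _).2 (by rintro _ ⟨a, -, rfl⟩; exact br_mem_normal hz a)
  set H : Subgroup X := R ⊔ W with hH
  have hCH : ∀ c ∈ A, (∀ a ∈ A, Commute c (br z a)) → c ∈ H := fun c hc h => by
    by_cases hcP : c ∈ pc p X
    · exact mem_sup_left ⟨hc, hcP⟩
    · obtain ⟨a, ha, hna⟩ := hC c hc hcP
      exact absurd (h a ha) hna
  have hcardH := S.card_le_of_inj hW H hCH fun a ha => mem_sup_right (subset_closure ⟨a, ha, rfl⟩)
  have hzH : z ∉ H := by
    intro hzH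
    have hWA : W ≤ ⁅W, A⁆ := by
      refine (closure_le _).2 ?_
      rintro _ ⟨b, hb, rfl⟩
      rw [hH, ← Subgroup.closure_eq R, ← Subgroup.closure_eq W, ← Subgroup.closure_union] at hzH
      suffices key : ∀ h ∈ closure ((R : Set X) ∪ W), br h b ∈ ⁅W, A⁆ from key z hzH
      intro h hh
      have hnorm : ∀ w ∈ W, b⁻¹ * w * b ∈ W := by
        intro w hw
        induction hw using closure_induction with
        | mem w hw =>
          obtain ⟨a, ha, rfl⟩ := hw
          have e : b⁻¹ * br z a * b = (br z b)⁻¹ * br z (a * b) := by rw [br_mul_right, inv_mul_cancel_left]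
          rw [e]
          exact W.mul_mem (W.inv_mem (subset_closure ⟨b, hb, rfl⟩)) (subset_closure ⟨_, A.mul_mem ha hb, rfl⟩)
        | one => simp
        | mul x y _ _ hx hy =>
          have e : b⁻¹ * (x * y) * b = (b⁻¹ * x * b) * (b⁻¹ * y * b) := by group
          rw [e]; exact W.mul_mem hx hy
        | inv x _ hx => simpa [mul_assoc] using W.inv_mem hx
      induction hh using closure_induction with
      | mem h hh =>
        rcases hh with hh | hh
        · rw [show br h b = 1 from br_eq_one.2 (S.Ac h hh.1 b hb)]; exact one_mem _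
        · exact br_mem hh hb
      | one => rw [br_one_left]; exact one_mem _
      | mul x y hx hy h1 h2 =>
        have hxP : ∀ {u : X}, u ∈ closure ((R : Set X) ∪ W) → u ∈ pc p X := fun hu =>
          ((closure_le _).2 (Set.union_subset (fun r hr => hr.2) (fun w hw => (hWz hw).1))) hu
        have hWAz : br x b ∈ zpc p X :=
          (le_trans (commutator_mono hWz le_rfl) (Subgroup.commutator_le_left (zpc p X) A)) h1
        rw [br_mul_left, mul_assoc y⁻¹, (S.zpc_comm hWAz (hxP hy)).eq, inv_mul_cancel_left]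
        exact mul_mem h1 h2
      | inv x hx h1 =>
        have e : br x⁻¹ b = x * (br x b)⁻¹ * x⁻¹ := by simp only [br]; group
        have hWAz : br x b ∈ zpc p X :=
          (le_trans (commutator_mono hWz le_rfl) (Subgroup.commutator_le_left (zpc p X) A)) h1
        have hxP : x ∈ pc p X :=
          ((closure_le _).2 (Set.union_subset (fun r hr => hr.2) (fun w hw => (hWz hw).1))) hx
        rw [e, ← (S.zpc_comm (inv_mem hWAz) hxP).eq, mul_inv_cancel_right]
        exact inv_mem h1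
    have hWT : W ≤ T := hWz.trans (inf_le_left.trans S.PT)
    have hW0 : W = ⊥ := CfsgLib.LocalEven.CommutatorAB.eq_bot_of_le_commutator S.Tp hWT
      (hWA.trans (commutator_mono le_rfl S.AT))
    obtain ⟨c, hc, hcP⟩ := SetLike.not_le_iff_exists.1 S.AP
    obtain ⟨b, hb, hnb⟩ := hC c hc hcP
    have : br z b ∈ W := subset_closure ⟨b, hb, rfl⟩
    rw [hW0, mem_bot] at this
    exact hnb (this ▸ Commute.one_right c)
  set H' : Subgroup X := closure ((R : Set X) ∪ (W : Set X) ∪ {z}) with hH'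
  have hH'T : H' ≤ T := (closure_le _).2 (Set.union_subset (Set.union_subset (fun r hr => S.AT hr.1)
    (fun w hw => S.PT (hWz hw).1)) (Set.singleton_subset_iff.2 (S.PT hz.1)))
  have hH'c : ∀ a ∈ H', ∀ b ∈ H', Commute a b := commute_closure <| by
    have key : ∀ u ∈ zpc p X, ∀ v ∈ pc p X, Commute u v := fun u hu v hv => S.zpc_comm hu hv
    rintro a ((ha | ha) | rfl) b ((hb | hb) | rfl)
    exacts [S.Ac a ha.1 b hb.1, (key b (hWz hb) a ha.2).symm, (key b hz a ha.2).symm,
      key a (hWz ha) b hb.2, key a (hWz ha) b (hWz hb).1, key a (hWz ha) b hz.1,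
      key a hz b hb.2, key a hz b (hWz hb).1, Commute.refl _]
  have hlt : H < H' := by
    refine lt_of_le_of_ne (sup_le (fun r hr => subset_closure (Or.inl (Or.inl hr)))
      (fun w hw => subset_closure (Or.inl (Or.inr hw)))) fun he => hzH (he ▸ subset_closure (Or.inr rfl))
  have := S.maxCard H' hH'T hH'c
  have h2 : Nat.card H < Nat.card H' := Set.Finite.card_lt_card (Set.toFinite (H' : Set X)) hlt
  omega

theorem zpc_br_br {z a b : X} (hz : z ∈ zpc p X) (ha : a ∈ A) (hb : b ∈ A) : br (br z a) b = 1 :=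
  br_eq_one.2 (S.Ac _ (S.zpc_br_mem hz ha) b hb)

/-- A property of elements of `T` descending under commutation with `A` has a last element. -/
theorem exists_last {Bad : X → Prop} (h1 : ¬ Bad 1) (hT : ∀ m, Bad m → m ∈ T) {m₀ : X} (h₀ : Bad m₀) :
    ∃ m, Bad m ∧ ∀ a ∈ A, ¬ Bad (br m a) := by
  by_contra hcon
  push Not at hcon
  haveI : Group.IsNilpotent T := S.Tp.isNilpotent
  have key : ∀ n, ∃ m, Bad m ∧ m ∈ ((⊤ : Subgroup T).lowerCentralSeries n).map T.subtype := by
    intro n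
    induction n with
    | zero => exact ⟨m₀, h₀, ⟨m₀, hT _ h₀⟩, by simp, rfl⟩
    | succ n ih =>
      obtain ⟨m, hm, hmL⟩ := ih
      obtain ⟨a, ha, hma⟩ := hcon m hm
      refine ⟨_, hma, ?_⟩
      have := br_mem hmL (S.AT ha)
      rw [Subgroup.lowerCentralSeries_succ, Subgroup.map_commutator]
      refine commutator_mono le_rfl ?_ this
      intro x hx
      exact ⟨⟨x, hx⟩, by simp, rfl⟩
  obtain ⟨n, hn⟩ := Subgroup.nilpotent_iff_lowerCentralSeries.1 (inferInstance : Group.IsNilpotent T)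
  obtain ⟨m, hm, hmL⟩ := key n
  rw [hn, Subgroup.map_bot, mem_bot] at hmL
  exact h1 (hmL ▸ hm)

end Setup

end CfsgLib.PLocal.TTransfer
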