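import Cfsg.Agent.Lib.PLocal.ThompsonTransfer.Setup

/-!
The additive group `Z(O_p)` and the commutator form on the critical subgroup with values in it.
-/

set_option autoImplicit false
set_option linter.unusedSectionVars false
set_option linter.style.haveILetI false

namespace CfsgLib.PLocal.TTransfer

open Cfsg Subgroup CfsgLib.KInf
open scoped commutatorElement

variable {X : Type*} [Group X]

instance zpc_commGroup (p : ℕ) : CommGroup ↥(zpc p X) :=
  { (inferInstance : Group ↥(zpc p X)) with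
    mul_comm := fun a b => Subtype.ext (b.2.2 (a : X) a.2.1) }

/-- `Z(O_p(X))` written additively. -/
abbrev ZA (p : ℕ) (X : Type*) [Group X] := Additive ↥(zpc p X)

variable {p : ℕ}

/-- The underlying element. -/
def zv (z : ZA p X) : X := ((Additive.toMul z : ↥(zpc p X)) : X)

open Classical in
/-- An element of the centre of `O_p`, additively (and `0` for the others). -/
noncomputable def toZ (p : ℕ) (x : X) : ZA p X :=
  if h : x ∈ zpc p X then Additive.ofMul (⟨x, h⟩ : ↥(zpc p X)) else 0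

theorem zv_mem (z : ZA p X) : zv z ∈ zpc p X := SetLike.coe_mem (Additive.toMul z)

theorem zv_toZ {x : X} (hx : x ∈ zpc p X) : zv (toZ p x) = x := by
  unfold toZ
  rw [dif_pos hx]
  rfl

theorem zv_inj {z w : ZA p X} (h : zv z = zv w) : z = w := Subtype.ext h

theorem toZ_zv (z : ZA p X) : toZ p (zv z) = z := zv_inj (zv_toZ (zv_mem z))

theorem zv_zero : zv (0 : ZA p X) = 1 := rfl

theorem zv_add (z w : ZA p X) : zv (z + w) = zv z * zv w := rfl

theorem zv_neg (z : ZA p X) : zv (-z) = (zv z)⁻¹ := rfl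

theorem zv_sub (z w : ZA p X) : zv (z - w) = zv z * (zv w)⁻¹ := by
  rw [sub_eq_add_neg, zv_add, zv_neg]

theorem toZ_one : toZ p (1 : X) = 0 := zv_inj (zv_toZ (one_mem _))

theorem toZ_mul {x y : X} (hx : x ∈ zpc p X) (hy : y ∈ zpc p X) : toZ p (x * y) = toZ p x + toZ p y :=
  zv_inj (by rw [zv_add, zv_toZ hx, zv_toZ hy, zv_toZ (mul_mem hx hy)])

/-- The commutator form. -/
noncomputable def ff (p : ℕ) (x y : X) : ZA p X := toZ p (br x y)

/-- Commutation with `a` on `Z(O_p)`. -/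
noncomputable def dl (p : ℕ) (a : X) : ZA p X →+ ZA p X where
  toFun z := toZ p (br (zv z) a)
  map_zero' := by simp [zv_zero, br_one_left, toZ_one]
  map_add' := fun z w => by
    have hz : br (zv z) a ∈ zpc p X := br_mem_normal (zv_mem z) a
    rw [zv_add, br_mul_left, mul_assoc (zv w)⁻¹, (zv_mem w).2 _ hz.1, inv_mul_cancel_left,
      toZ_mul hz (br_mem_normal (zv_mem w) a)]

theorem zv_dl (a : X) (z : ZA p X) : zv (dl p a z) = br (zv z) a := zv_toZ (br_mem_normal (zv_mem z) a)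

theorem toZ_conj {z a : X} (hz : z ∈ zpc p X) : toZ p (a⁻¹ * z * a) = toZ p z + dl p a (toZ p z) :=
  zv_inj (by rw [zv_toZ (conj_mem' hz a), zv_add, zv_dl, zv_toZ hz, conj_eq_mul_br])

/-- The fixed points of `A` in `Z(O_p)`. -/
def fixA (p : ℕ) (A : Subgroup X) : AddSubgroup (ZA p X) where
  carrier := {z | zv z ∈ A}
  zero_mem' := A.one_mem
  add_mem' := fun hz hw => A.mul_mem hz hw
  neg_mem' := fun hz => A.inv_mem hz

theorem mem_fixA {A : Subgroup X} {z : ZA p X} : z ∈ fixA p A ↔ zv z ∈ A := Iff.rfl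

namespace Setup

variable [Finite X] [Fact p.Prime] {T Q A : Subgroup X} (S : Setup p T Q A)
include S

theorem zv_ff {x y : X} (hx : x ∈ Q) (hy : y ∈ Q) : zv (ff p x y) = br x y := zv_toZ (S.br_zpc hx hy)

theorem ff_add_left {x y q : X} (hx : x ∈ Q) (hy : y ∈ Q) (hq : q ∈ Q) :
    ff p (x * y) q = ff p x q + ff p y q := by
  rw [ff, S.br_add_left hx hy hq, toZ_mul (S.br_zpc hx hq) (S.br_zpc hy hq)]
  rfl

theorem ff_add_right {q x y : X} (hq : q ∈ Q) (hx : x ∈ Q) (hy : y ∈ Q) :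
    ff p q (x * y) = ff p q x + ff p q y := by
  rw [ff, S.br_add_right hq hx hy, toZ_mul (S.br_zpc hq hx) (S.br_zpc hq hy)]
  rfl

theorem ff_of_commute {x y : X} (h : Commute x y) : ff p x y = 0 := by
  rw [ff, br_eq_one.2 h, toZ_one]

theorem ff_zc_right {x z : X} (hx : x ∈ Q) (hz : z ∈ Q ⊓ centralizer (Q : Set X)) : ff p x z = 0 :=
  S.ff_of_commute (S.zc_comm hz hx).symm

theorem ff_zc_left {x z : X} (hx : x ∈ Q) (hz : z ∈ Q ⊓ centralizer (Q : Set X)) : ff p z x = 0 :=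
  S.ff_of_commute (S.zc_comm hz hx)

theorem ff_swap {x y : X} (hx : x ∈ Q) (hy : y ∈ Q) : ff p y x = -ff p x y := by
  refine zv_inj ?_
  rw [zv_neg, S.zv_ff hx hy, S.zv_ff hy hx, br_inv]

theorem ff_inv_left {x q : X} (hx : x ∈ Q) (hq : q ∈ Q) : ff p x⁻¹ q = -ff p x q := by
  refine eq_neg_of_add_eq_zero_left ?_
  rw [← S.ff_add_left (inv_mem hx) hx hq, inv_mul_cancel, S.ff_of_commute (Commute.one_left q)]

theorem ff_inv_right {q x : X} (hq : q ∈ Q) (hx : x ∈ Q) : ff p q x⁻¹ = -ff p q x := by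
  refine eq_neg_of_add_eq_zero_left ?_
  rw [← S.ff_add_right hq (inv_mem hx) hx, inv_mul_cancel, S.ff_of_commute (Commute.one_right q)]

/-- The shift identity. -/
theorem dl_ff {x y : X} (hx : x ∈ Q) (hy : y ∈ Q) (a : X) :
    dl p a (ff p x y) = ff p (br x a) y + ff p x (br y a) + ff p (br x a) (br y a) := by
  haveI := S.crit.normal
  have hxa := br_mem_normal (H := Q) hx a
  have hya := br_mem_normal (H := Q) hy a
  have h1 := toZ_conj (a := a) (S.br_zpc hx hy)
  rw [br_conj, conj_eq_mul_br, conj_eq_mul_br] at h1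
  change ff p (x * br x a) (y * br y a) = ff p x y + dl p a (ff p x y) at h1
  rw [S.ff_add_left hx hxa (mul_mem hy hya), S.ff_add_right hx hy hya, S.ff_add_right hxa hy hya] at h1
  refine add_left_cancel (a := ff p x y) ?_
  rw [← h1]
  abel

theorem dl_mem_fixedZ {a : X} (ha : a ∈ A) (z : ZA p X) : dl p a z ∈ fixA p A := by
  rw [mem_fixA, zv_dl]
  exact S.zpc_br_mem (zv_mem z) ha

theorem dl_fixedZ {a : X} (ha : a ∈ A) {z : ZA p X} (hz : z ∈ fixA p A) : dl p a z = 0 :=
  zv_inj (by rw [zv_dl, br_eq_one.2 (S.Ac _ hz a ha), zv_zero])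

theorem dl_dl {a b : X} (ha : a ∈ A) (hb : b ∈ A) (z : ZA p X) : dl p b (dl p a z) = 0 :=
  S.dl_fixedZ hb (S.dl_mem_fixedZ ha z)

theorem fixed_of_dl {z : ZA p X} (h : ∀ a ∈ A, dl p a z = 0) : z ∈ fixA p A :=
  S.mem_of_commute (S.PT (zv_mem z).1) fun a ha => br_eq_one.1 (by rw [← zv_dl, h a ha, zv_zero])

theorem exists_half (hp2 : p ≠ 2) : ∃ m : ℕ, ∀ z : ZA p X, m • (z + z) = z := by
  have hodd : Odd (Nat.card ↥(zpc p X)) := by
    have hp' : IsPGroup p ↥(zpc p X) := (CfsgLib.Base.isPGroup_pCore p X).to_le inf_le_left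
    obtain ⟨n, hn⟩ := IsPGroup.iff_card.1 hp'
    rw [hn]
    exact ((Fact.out : p.Prime).odd_of_ne_two hp2).pow
  obtain ⟨k, hk⟩ := hodd
  refine ⟨k + 1, fun z => ?_⟩
  have h0 : (2 * k + 1) • z = 0 := by
    have h1 : (Additive.toMul z) ^ (2 * k + 1) = 1 := by rw [← hk]; exact pow_card_eq_one'
    exact h1
  calc (k + 1) • (z + z) = (2 * k + 1) • z + z := by
        rw [smul_add, ← add_nsmul, ← succ_nsmul, show k + 1 + (k + 1) = 2 * k + 1 + 1 by omega]
    _ = z := by rw [h0, zero_add]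

end Setup

end CfsgLib.PLocal.TTransfer
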